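import Cfsg.Agent.H65.Dihedral
import Mathlib

/-!
Counting in a simple group with element orders `{1, 2, p, r, 2p}` in which elements of equal
order are conjugate under the automorphism group.
-/

set_option autoImplicit false
set_option linter.unusedSectionVars false
set_option linter.style.haveILetI false

open scoped Pointwise

namespace Cfsg.Agent.H9.FiveOrbits

open Subgroup

universe u

variable {G : Type u} [Group G] [Finite G]

/-- The hypotheses on the group. -/
structure Hard (G : Type u) [Group G] [Finite G] (p r : ℕ) : Prop where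
  hp : p.Prime
  hr : r.Prime
  hp2 : p ≠ 2
  hr2 : r ≠ 2
  hpr : p ≠ r
  simple : IsSimpleGroup G
  noncomm : ¬ IsMulCommutative G
  orders : ∀ g : G, orderOf g = 1 ∨ orderOf g = 2 ∨ orderOf g = p ∨ orderOf g = r ∨
    orderOf g = 2 * p
  exR : ∃ g : G, orderOf g = r
  exTwoP : ∃ g : G, orderOf g = 2 * p
  aut : ∀ x y : G, orderOf x = orderOf y → ∃ α : MulAut G, α x = y

/-- The number of elements of a given order. -/
noncomputable def num (G : Type u) [Group G] (n : ℕ) : ℕ := Nat.card {g : G // orderOf g = n}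

/-- The elements of order `p` commuting with a given element. -/
noncomputable def pIn (p : ℕ) (t : G) : ℕ := Nat.card {y : G // orderOf y = p ∧ Commute t y}

/-- The involutions commuting with a given element. -/
noncomputable def twoIn (y : G) : ℕ := Nat.card {t : G // orderOf t = 2 ∧ Commute t y}

theorem card_centralizer_map (α : MulAut G) (x : G) :
    Nat.card (centralizer ({α x} : Set G)) = Nat.card (centralizer ({x} : Set G)) := by
  refine (Nat.card_congr (α.toEquiv.subtypeEquiv fun g => ?_)).symm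
  simp only [mem_centralizer_singleton_iff]
  exact ⟨fun h => by simpa using congrArg α h, fun h => α.injective (by simpa using h)⟩

theorem pIn_map (p : ℕ) (α : MulAut G) (x : G) : pIn p (α x) = pIn p x := by
  refine (Nat.card_congr (α.toEquiv.subtypeEquiv fun g => ?_)).symm
  refine and_congr ?_ ?_
  · exact (MulEquiv.orderOf_eq α g).symm ▸ Iff.rfl
  · exact ⟨fun h => by simpa [Commute, SemiconjBy] using congrArg α h.eq,
      fun h => α.injective (by simpa using h.eq)⟩

theorem twoIn_map (α : MulAut G) (x : G) : twoIn (α x) = twoIn x := by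
  refine (Nat.card_congr (α.toEquiv.subtypeEquiv fun g => ?_)).symm
  refine and_congr ?_ ?_
  · exact (MulEquiv.orderOf_eq α g).symm ▸ Iff.rfl
  · exact ⟨fun h => by simpa [Commute, SemiconjBy] using congrArg α h.eq,
      fun h => α.injective (by simpa using h.eq)⟩

namespace Hard

variable {p r : ℕ} (h : Hard G p r)
include h

theorem two_lt_p : 2 < p := lt_of_le_of_ne h.hp.two_le (Ne.symm h.hp2)

theorem coprime_two : Nat.Coprime 2 p := (Nat.coprime_primes Nat.prime_two h.hp).2 (Ne.symm h.hp2)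

theorem prime_of_dvd {q : ℕ} (hq : q.Prime) (hd : q ∣ Nat.card G) : q = 2 ∨ q = p ∨ q = r := by
  haveI := Fact.mk hq
  obtain ⟨g, hg⟩ := exists_prime_orderOf_dvd_card' q hd
  rcases h.orders g with e | e | e | e | e <;> rw [hg] at e
  · exact absurd e hq.one_lt.ne'
  · exact Or.inl e
  · exact Or.inr (Or.inl e)
  · exact Or.inr (Or.inr e)
  · subst e
    exact absurd hq (Nat.not_prime_mul (by norm_num) h.hp.ne_one)

theorem exists_two : ∃ t : G, orderOf t = 2 := by
  obtain ⟨g, hg⟩ := h.exTwoP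
  refine ⟨g ^ p, ?_⟩
  rw [orderOf_pow' g h.hp.ne_zero, hg, Nat.gcd_mul_left_left, Nat.mul_div_cancel _ h.hp.pos]

theorem exists_p : ∃ y : G, orderOf y = p := by
  obtain ⟨g, hg⟩ := h.exTwoP
  refine ⟨g ^ 2, ?_⟩
  rw [orderOf_pow' g two_ne_zero, hg, Nat.gcd_mul_right_left, Nat.mul_div_cancel_left _ two_pos]

/-- Elements of `2`-power order have order at most two. -/
theorem sq_eq_one_of_two_pow {g : G} {j : ℕ} (hg : orderOf g = 2 ^ j) : g * g = 1 := by
  rw [← pow_two]
  apply orderOf_dvd_iff_pow_eq_one.1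
  have hnp : ¬ p ∣ orderOf g := fun hd => h.hp2 <|
    (Nat.prime_dvd_prime_iff_eq h.hp Nat.prime_two).1 (h.hp.dvd_of_dvd_pow (hg ▸ hd))
  rcases h.orders g with e | e | e | e | e
  · rw [e]; exact one_dvd _
  · rw [e]
  · exact absurd (e ▸ dvd_rfl) hnp
  · exfalso
    exact h.hr2 ((Nat.prime_dvd_prime_iff_eq h.hr Nat.prime_two).1
      (h.hr.dvd_of_dvd_pow (n := j) (by rw [← hg, e])))
  · exact absurd (e ▸ dvd_mul_left p 2) hnp

theorem sq_eq_one_of_mem {Q : Subgroup G} (hQ : IsPGroup 2 Q) {g : G} (hg : g ∈ Q) : g * g = 1 := by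
  haveI : Fact (Nat.Prime 2) := ⟨Nat.prime_two⟩
  obtain ⟨j, hj⟩ := IsPGroup.iff_orderOf.1 hQ ⟨g, hg⟩
  rw [orderOf_mk] at hj
  exact h.sq_eq_one_of_two_pow hj

theorem two_of_mem {Q : Subgroup G} (hQ : IsPGroup 2 Q) {g : G} (hg : g ∈ Q) (h1 : g ≠ 1) :
    orderOf g = 2 :=
  H65.two_iff.2 ⟨h.sq_eq_one_of_mem hQ hg, h1⟩

theorem commute_of_mem {Q : Subgroup G} (hQ : IsPGroup 2 Q) {a b : G} (ha : a ∈ Q) (hb : b ∈ Q) :
    Commute a b := by
  have h1 := h.sq_eq_one_of_mem hQ (mul_mem ha hb)
  have h2 := h.sq_eq_one_of_mem hQ ha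
  have h3 := h.sq_eq_one_of_mem hQ hb
  calc a * b = (a * b)⁻¹ := (inv_eq_of_mul_eq_one_right h1).symm
    _ = b * a := by rw [mul_inv_rev, inv_eq_of_mul_eq_one_right h2, inv_eq_of_mul_eq_one_right h3]

end Hard

end Cfsg.Agent.H9.FiveOrbits
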