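import Cfsg.Agent.H9.FiveOrbits.Basic

/-!
The counting identities.
-/

set_option autoImplicit false
set_option linter.unusedSectionVars false
set_option linter.style.haveILetI false

open scoped Pointwise

namespace Cfsg.Agent.H9.FiveOrbits

open Subgroup

universe u

variable {G : Type u} [Group G] [Finite G]

/-- A normal complement to a Sylow subgroup central in its normalizer is impossible here. -/
theorem Hard.not_normalizer_le_centralizer {p r : ℕ} (h : Hard G p r) {q : ℕ} [Fact q.Prime]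
    (P : Sylow q G) (hq : q ∣ Nat.card G)
    (hle : normalizer ((P : Subgroup G) : Set G) ≤ centralizer ((P : Subgroup G) : Set G)) :
    False := by
  haveI := h.simple
  have hc := MonoidHom.ker_transferSylow_isComplement' P hle
  rcases IsSimpleGroup.eq_bot_or_eq_top_of_normal
    (MonoidHom.transferSylow P hle).ker (MonoidHom.normal_ker _) with e | e <;> rw [e] at hc
  · have htop : (P : Subgroup G) = ⊤ := Subgroup.isComplement'_bot_left.1 hc
    obtain ⟨t, ht⟩ := h.exists_two
    obtain ⟨x, hx⟩ := h.exR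
    obtain ⟨i, hi⟩ := IsPGroup.iff_orderOf.1 P.isPGroup' ⟨t, htop ▸ mem_top t⟩
    obtain ⟨j, hj⟩ := IsPGroup.iff_orderOf.1 P.isPGroup' ⟨x, htop ▸ mem_top x⟩
    rw [orderOf_mk, ht] at hi
    rw [orderOf_mk, hx] at hj
    have hq2 : 2 = q := (Nat.prime_dvd_prime_iff_eq Nat.prime_two Fact.out).1
      (Nat.prime_two.dvd_of_dvd_pow (n := i) (by rw [← hi]))
    exact h.hr2 (((Nat.prime_dvd_prime_iff_eq h.hr Fact.out).1
      (h.hr.dvd_of_dvd_pow (n := j) (by rw [← hj]))).trans hq2.symm)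
  · have hbot : (P : Subgroup G) = ⊥ := Subgroup.isComplement'_top_left.1 hc
    exact (Fact.out : q.Prime).not_dvd_one (by
      have := P.dvd_card_of_dvd_card hq
      rw [hbot, card_bot] at this
      exact this)

namespace Hard

variable {p r : ℕ} (h : Hard G p r)
include h

theorem card_eq : Nat.card G =
    1 + num G 2 + num G p + num G r + num G (2 * p) := by
  classical
  haveI := Fintype.ofFinite G
  have hn : ∀ n, num G n = (Finset.univ.filter fun g : G => orderOf g = n).card := fun n => by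
    rw [num, Nat.card_eq_fintype_card, Fintype.card_subtype]
  have h1 : (Finset.univ.filter fun g : G => orderOf g = 1).card = 1 := by
    rw [Finset.card_eq_one]
    exact ⟨1, by ext g; simp [orderOf_eq_one_iff]⟩
  have hp := h.two_lt_p
  have hr : 2 < r := lt_of_le_of_ne h.hr.two_le (Ne.symm h.hr2)
  have hpr := h.hpr
  have hr2p : r ≠ 2 * p := fun e => Nat.not_prime_mul (by norm_num) h.hp.ne_one (e ▸ h.hr)
  rw [Nat.card_eq_fintype_card, ← Finset.card_univ,
    Finset.card_eq_sum_card_fiberwise (f := orderOf) (t := ({1, 2, p, r, 2 * p} : Finset ℕ))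
      (fun g _ => by rcases h.orders g with e | e | e | e | e <;> simp [e])]
  rw [Finset.sum_insert (by simp; omega), Finset.sum_insert (by simp; omega),
    Finset.sum_insert (by simp; omega), Finset.sum_insert (by simp; omega), Finset.sum_singleton,
    h1, ← hn, ← hn, ← hn, ← hn]
  ring

theorem orderOf_mul {t y : G} (ht : orderOf t = 2) (hy : orderOf y = p) (hc : Commute t y) :
    orderOf (t * y) = 2 * p := by
  rw [hc.orderOf_mul_eq_mul_orderOf_of_coprime (by rw [ht, hy]; exact h.coprime_two), ht, hy]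

theorem pow_eq {t y : G} (ht : orderOf t = 2) (hy : orderOf y = p) (hc : Commute t y) :
    (t * y) ^ p = t ∧ (t * y) ^ (p + 1) = y := by
  obtain ⟨m, hm⟩ := h.hp.odd_of_ne_two h.hp2
  have h2 : t ^ 2 = 1 := by rw [← ht]; exact pow_orderOf_eq_one t
  have hp1 : y ^ p = 1 := by rw [← hy]; exact pow_orderOf_eq_one y
  have htp : t ^ p = t := by rw [hm, pow_succ, pow_mul, h2, one_pow, one_mul]
  refine ⟨by rw [hc.mul_pow, htp, hp1, mul_one], ?_⟩
  rw [hc.mul_pow, pow_succ, htp, ← pow_two, h2, pow_succ, hp1, one_mul, one_mul]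

theorem split_twoP {g : G} (hg : orderOf g = 2 * p) :
    orderOf (g ^ p) = 2 ∧ orderOf (g ^ (p + 1)) = p ∧ g ^ p * g ^ (p + 1) = g := by
  obtain ⟨m, hm⟩ := h.hp.odd_of_ne_two h.hp2
  refine ⟨?_, ?_, ?_⟩
  · rw [orderOf_pow' g h.hp.ne_zero, hg, Nat.gcd_mul_left_left, Nat.mul_div_cancel _ h.hp.pos]
  · have hgcd : Nat.gcd (2 * p) (p + 1) = 2 := by
      rw [Nat.Coprime.gcd_mul_right_cancel 2 (by simp)]
      exact Nat.gcd_eq_left ⟨m + 1, by omega⟩
    rw [orderOf_pow' g (by omega), hg, hgcd, Nat.mul_div_cancel_left _ two_pos]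
  · rw [← pow_add, show p + (p + 1) = 2 * p + 1 by omega, pow_succ, ← hg, pow_orderOf_eq_one,
      one_mul]

/-- The elements of order `2p` are the commuting pairs. -/
noncomputable def pairEquiv : {g : G // orderOf g = 2 * p} ≃
    Σ t : {t : G // orderOf t = 2}, {y : G // orderOf y = p ∧ Commute (t : G) y} where
  toFun g := ⟨⟨g.1 ^ p, (h.split_twoP g.2).1⟩,
    ⟨g.1 ^ (p + 1), (h.split_twoP g.2).2.1, (Commute.refl g.1).pow_pow _ _⟩⟩
  invFun x := ⟨x.1.1 * x.2.1, h.orderOf_mul x.1.2 x.2.2.1 x.2.2.2⟩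
  left_inv g := Subtype.ext (h.split_twoP g.2).2.2
  right_inv x := by
    obtain ⟨⟨t, ht⟩, ⟨y, hy, hc⟩⟩ := x
    obtain ⟨e1, e2⟩ := h.pow_eq ht hy hc
    exact Sigma.subtype_ext (Subtype.ext e1) e2

/-- The commuting pairs indexed by the element of order `p`. -/
noncomputable def pairEquiv' : {g : G // orderOf g = 2 * p} ≃
    Σ y : {y : G // orderOf y = p}, {t : G // orderOf t = 2 ∧ Commute t (y : G)} where
  toFun g := ⟨⟨g.1 ^ (p + 1), (h.split_twoP g.2).2.1⟩,
    ⟨g.1 ^ p, (h.split_twoP g.2).1, (Commute.refl g.1).pow_pow _ _⟩⟩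
  invFun x := ⟨x.2.1 * x.1.1, h.orderOf_mul x.2.2.1 x.1.2 x.2.2.2⟩
  left_inv g := Subtype.ext (h.split_twoP g.2).2.2
  right_inv x := by
    obtain ⟨⟨y, hy⟩, ⟨t, ht, hc⟩⟩ := x
    obtain ⟨e1, e2⟩ := h.pow_eq ht hy hc
    exact Sigma.subtype_ext (Subtype.ext e2) e1

theorem pIn_eq {s t : G} (hs : orderOf s = 2) (ht : orderOf t = 2) : pIn p s = pIn p t := by
  obtain ⟨α, hα⟩ := h.aut t s (by rw [hs, ht])
  rw [← hα, pIn_map]

theorem twoIn_eq {x y : G} (hx : orderOf x = p) (hy : orderOf y = p) : twoIn x = twoIn y := by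
  obtain ⟨α, hα⟩ := h.aut y x (by rw [hx, hy])
  rw [← hα, twoIn_map]

theorem num_twoP_eq_two {t : G} (ht : orderOf t = 2) : num G (2 * p) = num G 2 * pIn p t := by
  classical
  haveI := Fintype.ofFinite G
  rw [num, Nat.card_congr h.pairEquiv, Nat.card_sigma]
  exact (Finset.sum_congr rfl (g := fun _ => pIn p t)
    (fun (x : {t : G // orderOf t = 2}) _ => h.pIn_eq x.2 ht)).trans (by simp [num])

theorem num_twoP_eq_p {y : G} (hy : orderOf y = p) : num G (2 * p) = num G p * twoIn y := by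
  classical
  haveI := Fintype.ofFinite G
  rw [num, Nat.card_congr h.pairEquiv', Nat.card_sigma]
  exact (Finset.sum_congr rfl (g := fun _ => twoIn y)
    (fun (x : {y : G // orderOf y = p}) _ => h.twoIn_eq x.2 hy)).trans (by simp [num])

theorem num_pos {n : ℕ} (hn : ∃ g : G, orderOf g = n) : 0 < num G n := by
  obtain ⟨g, hg⟩ := hn
  haveI : Nonempty {g : G // orderOf g = n} := ⟨⟨g, hg⟩⟩
  exact Nat.card_pos

theorem pIn_pos {t : G} (ht : orderOf t = 2) : 0 < pIn p t := by
  have h1 := h.num_pos (n := 2 * p) h.exTwoP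
  rw [h.num_twoP_eq_two ht] at h1
  exact Nat.pos_of_mul_pos_left h1

theorem twoIn_pos {y : G} (hy : orderOf y = p) : 0 < twoIn y := by
  have h1 := h.num_pos (n := 2 * p) h.exTwoP
  rw [h.num_twoP_eq_p hy] at h1
  exact Nat.pos_of_mul_pos_left h1

end Hard

end Cfsg.Agent.H9.FiveOrbits
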