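import Cfsg.Agent.H9.FiveOrbits.NCase2

/-!
No simple group has element orders `{1, 2, p, r, 2p}` with elements of equal order conjugate
under the automorphism group.
-/

set_option autoImplicit false
set_option linter.unusedSectionVars false
set_option linter.style.haveILetI false

open scoped Pointwise

namespace Cfsg.Agent.H9.FiveOrbits

open Subgroup

universe u

variable {G : Type u} [Group G] [Finite G]

namespace Hard

variable {p r : ℕ} (h : Hard G p r)
include h

theorem orb_mul_le (S : Sylow 2 G) {t : G} (ht : t ∈ (S : Subgroup G)) (ht2 : orderOf t = 2)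
    {k : ℕ} (hk : k ≤ (orb (S : Subgroup G) t).ncard) :
    k * (num G 2 * Nat.card (centralizer ({t} : Set G))) ≤
      Nat.card G * (Nat.card (S : Subgroup G) - 1) := by
  have h1 := h.incidence S ht ht2
  have h2 := orb_card (S : Subgroup G) t
  refine Nat.le_of_mul_le_mul_right (show _ * Nat.card (normalizer ((S : Subgroup G) : Set G)) ≤
    _ * Nat.card (normalizer ((S : Subgroup G) : Set G)) from ?_) Nat.card_pos
  rw [mul_assoc k, h1, ← h2]
  calc k * (Nat.card G * (Nat.card (S : Subgroup G) - 1) *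
        Nat.card ↥(normalizer ((S : Subgroup G) : Set G) ⊓ centralizer ({t} : Set G)))
      ≤ (orb (S : Subgroup G) t).ncard * (Nat.card G * (Nat.card (S : Subgroup G) - 1) *
        Nat.card ↥(normalizer ((S : Subgroup G) : Set G) ⊓ centralizer ({t} : Set G))) :=
        Nat.mul_le_mul_right _ hk
    _ = _ := by ring

theorem false_of_hasInv (S : Sylow 2 G) {t : G} (ht : t ∈ (S : Subgroup G)) (ht2 : orderOf t = 2)
    (hK : HasInv p (S : Subgroup G) t) : False := by
  haveI : Fact (Nat.Prime 2) := ⟨Nat.prime_two⟩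
  obtain ⟨k, hk⟩ := IsPGroup.iff_card.1 S.isPGroup'
  have horb3 := h.three_le_orb S ht ht2
  have horb := h.orb_lt_card S ht ht2
  obtain ⟨y, hy, A, hAS, hAy, hA⟩ := h.exists_cent S ht hK
  have hAp := S.isPGroup'.to_le hAS
  have htwo : Nat.card A ≤ twoIn y + 1 := h.card_le_twoIn hAp hAy
  have e2 := h.num_twoP_eq_two ht2
  have ey := h.num_twoP_eq_p hy
  have eG := h.card_eq
  have eR := h.two_mul_num_r_lt
  have hN2 := h.num_pos (n := 2) ⟨t, ht2⟩
  have hk2 : 2 ≤ k := by
    by_contra hlt
    have : 2 ^ k ≤ 2 ^ 1 := Nat.pow_le_pow_right two_pos (by omega)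
    omega
  obtain ⟨j, rfl⟩ : ∃ j, k = j + 1 := ⟨k - 1, by omega⟩
  have hpow : Nat.card (S : Subgroup G) = 2 * 2 ^ j := by rw [hk, pow_succ, mul_comm]
  have htwoP : 1 ≤ twoIn y := h.twoIn_pos hy
  have hNp : num G p ≤ num G (2 * p) := ey ▸ Nat.le_mul_of_pos_right _ htwoP
  by_cases hsr : ∀ s ∈ (S : Subgroup G), orderOf s = 2 →
      normalizer ((S : Subgroup G) : Set G) ⊓ centralizer ({s} : Set G) ≤
        centralizer ((S : Subgroup G) : Set G)
  · obtain ⟨-, hc⟩ := h.complement_of_semiregular S ht ht2 (hsr t ht ht2)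
    have h1 := h.orb_mul_le S ht ht2 horb3
    rw [← hc, hpow] at h1
    rcases Nat.lt_or_ge (2 ^ j) 4 with hj | hj
    · have hj2 : 2 ^ j = 2 := by
        have : j < 2 := by
          by_contra hj'
          have : 2 ^ 2 ≤ 2 ^ j := Nat.pow_le_pow_right two_pos (by omega)
          omega
        rw [show j = 1 by omega]; rfl
      rw [hj2] at h1
      have h3 : 3 * (num G 2 * ((pIn p t + 1) * (2 * 2))) =
          12 * num G (2 * p) + 12 * num G 2 := by rw [e2]; ring
      omega
    · have h3 : 3 * (num G 2 * ((pIn p t + 1) * (2 * 2 ^ j))) =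
          2 * 2 ^ j * (3 * num G (2 * p) + 3 * num G 2) := by rw [e2]; ring
      rw [h3, mul_comm (Nat.card G)] at h1
      have h4 : 3 * num G (2 * p) + 3 * num G 2 < Nat.card G := by
        refine Nat.lt_of_mul_lt_mul_left (a := 2 * 2 ^ j) (lt_of_le_of_lt h1 ?_)
        exact Nat.mul_lt_mul_of_pos_right (by omega) Nat.card_pos
      have h5 : 3 * num G p ≤ num G (2 * p) := by
        rw [ey, mul_comm]
        exact Nat.mul_le_mul_left _ (by omega)
      omega
  · have h5 := h.five_le_orb S ht ht2 hsr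
    have hb : 4 ≤ 2 ^ j := by
      have : 2 ≤ j := by
        by_contra hj'
        have : 2 ^ j ≤ 2 ^ 1 := Nat.pow_le_pow_right two_pos (by omega)
        omega
      exact (Nat.pow_le_pow_right two_pos this)
    have hdA : 2 ^ j ∣ Nat.card A := by
      obtain ⟨i, hi⟩ := IsPGroup.iff_card.1 hAp
      rw [hi] at hA ⊢
      refine pow_dvd_pow 2 ?_
      by_contra hlt
      have : 2 ^ (i + 1) ≤ 2 ^ j := Nat.pow_le_pow_right two_pos (by omega)
      rw [pow_succ] at this
      omega
    have h1 := h.pIn_bound S ht ht2 (j := j)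
      fun z hz => hdA.trans (h.two_pow_dvd_cent hy hz hAy)
    have h2 := h.orb_mul_le S ht ht2 h5
    obtain ⟨c, hc⟩ : ∃ c, 2 ^ j = c + 1 := ⟨2 ^ j - 1, by omega⟩
    have hc3 : 3 ≤ c := by omega
    have h3 : (c + 1) * (num G (2 * p) + 2 * num G 2) ≤
        num G 2 * Nat.card (centralizer ({t} : Set G)) := by
      refine le_trans (le_of_eq ?_) (Nat.mul_le_mul_left _ h1)
      rw [e2, hpow, hc]; ring
    have h4 : Nat.card (S : Subgroup G) - 1 = 2 * c + 1 := by omega
    rw [h4] at h2
    have h6 : c * num G p ≤ num G (2 * p) := by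
      rw [ey, mul_comm]
      exact Nat.mul_le_mul_left _ (by omega)
    have h7 : Nat.card G ≤ 1 + 2 * num G 2 + 2 * num G p + 2 * num G (2 * p) := by omega
    have h8 : 5 * ((c + 1) * (num G (2 * p) + 2 * num G 2)) ≤ Nat.card G * (2 * c + 1) :=
      le_trans (Nat.mul_le_mul_left 5 h3) h2
    have h9 : c * Nat.card G ≤
        c + 2 * c * num G 2 + 2 * (c + 1) * num G (2 * p) := by
      nlinarith [Nat.mul_le_mul_left c h7, h6]
    have h10 := le_trans (Nat.mul_le_mul_left c h8)
      (le_trans (le_of_eq (mul_assoc _ _ _).symm) (Nat.mul_le_mul_right (2 * c + 1) h9))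
    nlinarith [h10, hN2, hc3, Nat.zero_le (num G (2 * p)),
      Nat.mul_le_mul_left ((c + 1) * num G (2 * p)) hc3, Nat.mul_le_mul hc3 hN2]

theorem false : False := by
  haveI : Fact (Nat.Prime 2) := ⟨Nat.prime_two⟩
  obtain ⟨S⟩ : Nonempty (Sylow 2 G) := inferInstance
  by_cases hK : ∃ t ∈ (S : Subgroup G), orderOf t = 2 ∧ HasInv p (S : Subgroup G) t
  · obtain ⟨t, ht, ht2, hK⟩ := hK
    exact h.false_of_hasInv S ht ht2 hK
  · push Not at hK
    exact h.n_case_false S hK

end Hard

end Cfsg.Agent.H9.FiveOrbits
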