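import Cfsg.Agent.H9.FiveOrbits.Orbit

/-!
Elements of order `p` commuting with large `2`-subgroups.
-/

set_option autoImplicit false
set_option linter.unusedSectionVars false
set_option linter.style.haveILetI false

open scoped Pointwise

namespace Cfsg.Agent.H9.FiveOrbits

open Subgroup

universe u

variable {G : Type u} [Group G] [Finite G]

/-- `S` normalizes a nontrivial `p`-subgroup of the centralizer of `t`. -/
def HasInv (p : ℕ) (S : Subgroup G) (t : G) : Prop :=
  ∃ K : Subgroup G, K ≠ ⊥ ∧ IsPGroup p K ∧ K ≤ centralizer ({t} : Set G) ∧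
    S ≤ normalizer (K : Set G)

namespace Hard

variable {p r : ℕ} (h : Hard G p r)
include h

theorem orderOf_eq_p {y : G} {j : ℕ} (hy : orderOf y = p ^ j) (h1 : y ≠ 1) : orderOf y = p := by
  have hj : j ≠ 0 := fun e => h1 (orderOf_eq_one_iff.1 (by rw [hy, e, pow_zero]))
  have hd : p ∣ orderOf y := hy ▸ dvd_pow_self p hj
  rcases h.orders y with e | e | e | e | e
  · exact absurd (orderOf_eq_one_iff.1 e) h1
  · exact absurd ((Nat.prime_dvd_prime_iff_eq h.hp Nat.prime_two).1 (e ▸ hd)) h.hp2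
  · exact e
  · exact absurd ((Nat.prime_dvd_prime_iff_eq h.hp h.hr).1 (e ▸ hd)) h.hpr
  · exfalso
    exact h.hp2 ((Nat.prime_dvd_prime_iff_eq Nat.prime_two h.hp).1
      (Nat.prime_two.dvd_of_dvd_pow (n := j) (by rw [← hy, e]; exact dvd_mul_right 2 p))).symm

theorem exists_cent (S : Sylow 2 G) {t : G} (ht : t ∈ (S : Subgroup G))
    (hK : HasInv p (S : Subgroup G) t) :
    ∃ y : G, orderOf y = p ∧ ∃ A : Subgroup G, A ≤ (S : Subgroup G) ∧
      A ≤ centralizer ({y} : Set G) ∧ Nat.card (S : Subgroup G) ≤ 2 * Nat.card A := by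
  classical
  haveI := Fact.mk h.hp
  obtain ⟨K, hK1, hKp, hKt, hKS⟩ := hK
  let 𝒜 : Set (Subgroup G) := {B | B ≤ (S : Subgroup G) ∧ ∃ y ∈ K, y ≠ 1 ∧
    B ≤ centralizer ({y} : Set G)}
  have hne : 𝒜.Nonempty := by
    obtain ⟨⟨y, hy⟩, hy1⟩ := (Subgroup.ne_bot_iff_exists_ne_one).1 hK1
    exact ⟨⊥, bot_le, y, hy, fun e => hy1 (Subtype.ext e), bot_le⟩
  obtain ⟨A, ⟨hAS, y₁, hy₁K, hy₁1, hy₁A⟩, hmax⟩ := (Set.toFinite 𝒜).exists_maximal hne
  set K' := K ⊓ centralizer (A : Set G) with hK'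
  have hy₁K' : y₁ ∈ K' := ⟨hy₁K, mem_centralizer_iff.2 fun a ha =>
    mem_centralizer_singleton_iff.1 (hy₁A ha)⟩
  haveI : Nontrivial K' := ⟨⟨⟨y₁, hy₁K'⟩, 1, fun e => hy₁1 (congrArg Subtype.val e)⟩⟩
  haveI := (hKp.to_le (inf_le_left : K' ≤ K)).center_nontrivial
  obtain ⟨⟨⟨y₀, hy₀⟩, hy₀c⟩, hy₀1'⟩ := exists_ne (1 : center K')
  have hy₀1 : y₀ ≠ 1 := fun e => hy₀1' (Subtype.ext (Subtype.ext e))
  obtain ⟨j, hj⟩ := IsPGroup.iff_orderOf.1 hKp ⟨y₀, hy₀.1⟩
  rw [orderOf_mk] at hj
  have hy₀A : A ≤ centralizer ({y₀} : Set G) := fun a ha =>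
    mem_centralizer_singleton_iff.2 (mem_centralizer_iff.1 hy₀.2 a ha)
  refine ⟨y₀, h.orderOf_eq_p hj hy₀1, A, hAS, hy₀A, ?_⟩
  have hsc : ∀ s ∈ (S : Subgroup G), ∀ k ∈ K', s * k * s⁻¹ ∈ K' := by
    intro s hs k hk
    refine ⟨(mem_normalizer_iff.1 (hKS hs) k).1 hk.1, mem_centralizer_iff.2 fun a ha => ?_⟩
    have h1 : Commute a s := h.commute_of_mem S.isPGroup' (hAS ha) hs
    have h2 : Commute a k := mem_centralizer_iff.1 hk.2 a ha
    exact ((h1.mul_right h2).mul_right h1.inv_right).eq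
  -- elements of `S` outside `A` invert `y₀`
  have hinv : ∀ s ∈ (S : Subgroup G), s ∉ A → s * y₀ * s⁻¹ = y₀⁻¹ := by
    intro s hs hsA
    by_contra hne'
    set w := y₀ * (s * y₀ * s⁻¹)
    have hw1 : w ≠ 1 := fun e => hne' (eq_inv_of_mul_eq_one_right e)
    have hc : Commute y₀ (s * y₀ * s⁻¹) := by
      have := mem_center_iff.1 hy₀c ⟨_, hsc s hs y₀ hy₀⟩
      exact (congrArg Subtype.val this).symm
    have hws : s * w * s⁻¹ = w := by
      have h2 := h.sq_eq_one_of_mem S.isPGroup' hs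
      calc s * w * s⁻¹ = (s * y₀ * s⁻¹) * ((s * s) * y₀ * (s * s)⁻¹) := by
            simp only [w]; group
        _ = w := by rw [h2, one_mul, inv_one, mul_one, ← hc.eq]
    have hwK : w ∈ K' := mul_mem hy₀ (hsc s hs y₀ hy₀)
    refine hsA ((hmax (y := A ⊔ zpowers s) ⟨sup_le hAS (zpowers_le.2 hs), w, hwK.1, hw1,
      sup_le (fun a ha => mem_centralizer_singleton_iff.2 (mem_centralizer_iff.1 hwK.2 a ha))
        (zpowers_le.2 (mem_centralizer_singleton_iff.2 (mul_inv_eq_iff_eq_mul.1 hws)))⟩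
      le_sup_left) (mem_sup_right (mem_zpowers s)))
  have hmul : ∀ s₁ ∈ (S : Subgroup G), ∀ s₂ ∈ (S : Subgroup G), s₁ ∉ A → s₂ ∉ A →
      s₁ * s₂ ∈ A := by
    intro s₁ h1 s₂ h2 n1 n2
    by_contra hn
    have e := hinv _ (mul_mem h1 h2) hn
    rw [show s₁ * s₂ * y₀ * (s₁ * s₂)⁻¹ = s₁ * (s₂ * y₀ * s₂⁻¹) * s₁⁻¹ by group, hinv _ h2 n2,
      show s₁ * y₀⁻¹ * s₁⁻¹ = (s₁ * y₀ * s₁⁻¹)⁻¹ by group, hinv _ h1 n1, inv_inv] at e
    have h2' : orderOf y₀ ∣ 2 := orderOf_dvd_of_pow_eq_one (by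
      rw [pow_two]; exact eq_inv_iff_mul_eq_one.1 e)
    rw [h.orderOf_eq_p hj hy₀1] at h2'
    exact h.hp2 ((Nat.prime_dvd_prime_iff_eq h.hp Nat.prime_two).1 h2')
  by_cases hall : (S : Subgroup G) ≤ A
  · exact (card_le_of_le hall).trans (Nat.le_mul_of_pos_left _ two_pos)
  obtain ⟨s₁, hs₁, hs₁A⟩ := SetLike.not_le_iff_exists.1 hall
  let f : ↥(S : Subgroup G) → Bool × ↥A := fun s =>
    if hsA : (s : G) ∈ A then (true, ⟨s, hsA⟩)
    else (false, ⟨s₁ * s, hmul s₁ hs₁ s s.2 hs₁A hsA⟩)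
  have hf : Function.Injective f := by
    intro a b hab
    apply Subtype.ext
    simp only [f] at hab
    split_ifs at hab with ha hb hb <;> simp_all
  have := Nat.card_le_card_of_injective f hf
  rwa [Nat.card_prod, Nat.card_eq_fintype_card (α := Bool), Fintype.card_bool] at this

theorem card_le_twoIn {y : G} {Q : Subgroup G} (hQ : IsPGroup 2 Q)
    (hQy : Q ≤ centralizer ({y} : Set G)) : Nat.card Q ≤ twoIn y + 1 := by
  classical
  have e : {q : Q // q ≠ 1} → {t : G // orderOf t = 2 ∧ Commute t y} := fun q =>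
    ⟨q.1.1, h.two_of_mem hQ q.1.2 (fun e => q.2 (Subtype.ext e)),
      mem_centralizer_singleton_iff.1 (hQy q.1.2)⟩
  have h1 : Nat.card {q : Q // q ≠ 1} ≤ twoIn y :=
    Nat.card_le_card_of_injective
      (fun q : {q : Q // q ≠ 1} => (⟨q.1.1, h.two_of_mem hQ q.1.2 (fun e => q.2 (Subtype.ext e)),
        mem_centralizer_singleton_iff.1 (hQy q.1.2)⟩ : {t : G // orderOf t = 2 ∧ Commute t y}))
      (fun a b hab => Subtype.ext (Subtype.ext (congrArg Subtype.val hab :)))
  haveI := Fintype.ofFinite Q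
  rw [Nat.card_eq_fintype_card, Fintype.card_subtype_compl, Fintype.card_subtype_eq,
    ← Nat.card_eq_fintype_card] at h1
  omega

theorem two_pow_dvd_cent {y z : G} (hy : orderOf y = p) (hz : orderOf z = p) {A : Subgroup G}
    (hA : A ≤ centralizer ({y} : Set G)) :
    Nat.card A ∣ Nat.card (centralizer ({z} : Set G)) := by
  obtain ⟨α, hα⟩ := h.aut y z (by rw [hy, hz])
  rw [← hα, card_centralizer_map]
  exact card_dvd_of_le hA

/-- The elements of order `p` of a centralizer. -/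
theorem pIn_bound (S : Sylow 2 G) {t : G} (ht : t ∈ (S : Subgroup G)) (ht2 : orderOf t = 2)
    {j : ℕ} (hb : ∀ y : G, orderOf y = p → 2 ^ j ∣ Nat.card (centralizer ({y} : Set G))) :
    2 ^ j * pIn p t + Nat.card (S : Subgroup G) ≤ Nat.card (centralizer ({t} : Set G)) := by
  classical
  haveI : Fact (Nat.Prime 2) := ⟨Nat.prime_two⟩
  have hQ : ∀ y : {y : G // orderOf y = p ∧ Commute t y}, ∃ Q : Subgroup G, IsPGroup 2 Q ∧
      t ∈ Q ∧ Q ≤ centralizer ({(y : G)} : Set G) ∧ 2 ^ j ≤ Nat.card Q := by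
    rintro ⟨y, hy, hc⟩
    set C := centralizer ({y} : Set G)
    have htC : t ∈ C := mem_centralizer_singleton_iff.2 hc.eq
    obtain ⟨Q, hQ⟩ := IsPGroup.exists_le_sylow (IsPGroup.of_card (n := 1)
      (show Nat.card (zpowers (⟨t, htC⟩ : C)) = 2 ^ 1 by
        rw [Nat.card_zpowers, orderOf_mk, ht2, pow_one]))
    refine ⟨(Q : Subgroup C).map C.subtype, Q.isPGroup'.map _,
      ⟨⟨t, htC⟩, hQ (mem_zpowers _), rfl⟩, map_subtype_le _, ?_⟩
    rw [card_map_of_injective C.subtype_injective]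
    exact Nat.le_of_dvd Nat.card_pos (Q.pow_dvd_card_of_pow_dvd_card (hb y hy))
  choose Q hQ2 hQt hQy hQc using hQ
  have hemb : ∀ y, ∃ f : Fin (2 ^ j) → Q y, Function.Injective f := fun y => by
    haveI := Fintype.ofFinite (Q y)
    have hcard : Fintype.card (Fin (2 ^ j)) ≤ Fintype.card (Q y) := by
      rw [Fintype.card_fin, ← Nat.card_eq_fintype_card]
      exact hQc y
    obtain ⟨f⟩ := Function.Embedding.nonempty_of_card_le hcard
    exact ⟨f, f.injective⟩
  choose f hf using hemb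
  let F : ({y : G // orderOf y = p ∧ Commute t y} × Fin (2 ^ j)) ⊕ (S : Subgroup G) →
      centralizer ({t} : Set G) := Sum.elim
    (fun x => ⟨(x.1 : G) * ((f x.1 x.2 : Q x.1) : G), mul_mem
      (mem_centralizer_singleton_iff.2 x.1.2.2.symm.eq)
      (h.sylow_le_centralizer (hQ2 x.1) (hQt x.1) (f x.1 x.2).2)⟩)
    (fun s => ⟨s, h.sylow_le_centralizer S.isPGroup' ht s.2⟩)
  have hsq : ∀ x : {y : G // orderOf y = p ∧ Commute t y} × Fin (2 ^ j),
      ((x.1 : G) * ((f x.1 x.2 : Q x.1) : G)) * ((x.1 : G) * ((f x.1 x.2 : Q x.1) : G)) =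
        (x.1 : G) * (x.1 : G) := by
    intro x
    have hc : Commute (x.1 : G) ((f x.1 x.2 : Q x.1) : G) :=
      (mem_centralizer_singleton_iff.1 (hQy x.1 (f x.1 x.2).2)).symm
    rw [← hc.mul_mul_mul_comm, h.sq_eq_one_of_mem (hQ2 x.1) (f x.1 x.2).2, mul_one]
  have hsqinj : ∀ a b : G, orderOf a = p → orderOf b = p → a * a = b * b → a = b := by
    intro a b ha hb hab
    obtain ⟨m, hm⟩ := h.hp.odd_of_ne_two h.hp2
    have key : ∀ c : G, orderOf c = p → c = (c * c) ^ (m + 1) := fun c hc => by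
      rw [← pow_two, ← pow_mul, show 2 * (m + 1) = p + 1 by omega, pow_succ, ← hc,
        pow_orderOf_eq_one, one_mul]
    rw [key a ha, key b hb, hab]
  have hinj : Function.Injective F := by
    rintro (x | s) (x' | s') e <;> have e' := congrArg (fun z : centralizer ({t} : Set G) => (z : G)) e <;>
      simp only [F, Sum.elim_inl, Sum.elim_inr] at e'
    · have e2 := congrArg (fun z => z * z) e'
      simp only [hsq] at e2
      have e3 : x.1 = x'.1 := Subtype.ext (hsqinj _ _ x.1.2.1 x'.1.2.1 e2)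
      obtain ⟨x1, x2⟩ := x
      obtain ⟨x1', x2'⟩ := x'
      simp only at e3
      subst e3
      exact congrArg (fun z => Sum.inl (x1, z)) (hf x1 (Subtype.ext (mul_left_cancel e')))
    · exfalso
      have e2 := congrArg (fun z => z * z) e'
      simp only [hsq, h.sq_eq_one_of_mem S.isPGroup' s'.2] at e2
      have h2' : orderOf (x.1 : G) ∣ 2 := orderOf_dvd_of_pow_eq_one (by rw [pow_two]; exact e2)
      rw [x.1.2.1] at h2'
      exact h.hp2 ((Nat.prime_dvd_prime_iff_eq h.hp Nat.prime_two).1 h2')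
    · exfalso
      have e2 := congrArg (fun z => z * z) e'.symm
      simp only [hsq, h.sq_eq_one_of_mem S.isPGroup' s.2] at e2
      have h2' : orderOf (x'.1 : G) ∣ 2 := orderOf_dvd_of_pow_eq_one (by rw [pow_two]; exact e2)
      rw [x'.1.2.1] at h2'
      exact h.hp2 ((Nat.prime_dvd_prime_iff_eq h.hp Nat.prime_two).1 h2')
    · exact congrArg Sum.inr (Subtype.ext e')
  have h1 := Nat.card_le_card_of_injective F hinj
  rw [Nat.card_sum, Nat.card_prod, Nat.card_fin, mul_comm] at h1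
  exact h1

/-- The semiregular case: the centralizer has a normal `2`-complement. -/
theorem complement_of_semiregular (S : Sylow 2 G) {t : G} (ht : t ∈ (S : Subgroup G))
    (ht2 : orderOf t = 2)
    (hsr : normalizer ((S : Subgroup G) : Set G) ⊓ centralizer ({t} : Set G) ≤
      centralizer ((S : Subgroup G) : Set G)) :
    HasInv p (S : Subgroup G) t ∧
      (pIn p t + 1) * Nat.card (S : Subgroup G) = Nat.card (centralizer ({t} : Set G)) := by
  classical
  haveI : Fact (Nat.Prime 2) := ⟨Nat.prime_two⟩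
  set C := centralizer ({t} : Set G) with hC
  have hSC := h.sylow_le_centralizer S.isPGroup' ht
  let S' : Sylow 2 C := S.subtype hSC
  have hle : normalizer ((S' : Subgroup C) : Set C) ≤ centralizer ((S' : Subgroup C) : Set C) := by
    intro g hg
    have hgN : (g : G) ∈ normalizer ((S : Subgroup G) : Set G) := by
      rw [mem_normalizer_iff]
      intro a
      constructor
      · intro ha
        exact (mem_normalizer_iff.1 hg ⟨a, hSC ha⟩).1 ha
      · intro ha
        have haC : a ∈ C := by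
          have h' : (g : G)⁻¹ * ((g : G) * a * (g : G)⁻¹) * g ∈ C :=
            mul_mem (mul_mem (inv_mem g.2) (hSC ha)) g.2
          simpa [mul_assoc] using h'
        exact (mem_normalizer_iff.1 hg ⟨a, haC⟩).2 ha
    exact mem_centralizer_iff.2 fun a ha => Subtype.ext
      (mem_centralizer_iff.1 (hsr ⟨hgN, g.2⟩) a ha)
  have hc := MonoidHom.ker_transferSylow_isComplement' S' hle
  set K := (MonoidHom.transferSylow S' hle).ker with hKdef
  have hodd : ¬ 2 ∣ Nat.card K := MonoidHom.not_dvd_card_ker_transferSylow S' hle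
  have hord : ∀ k : K, k ≠ 1 → orderOf ((k : C) : G) = p := by
    intro k hk
    have h2 : ¬ 2 ∣ orderOf ((k : C) : G) := fun hd => hodd (hd.trans (by
      rw [orderOf_coe, orderOf_coe]; exact orderOf_dvd_natCard k))
    rcases h.orders ((k : C) : G) with e | e | e | e | e
    · exact absurd (Subtype.ext (Subtype.ext (orderOf_eq_one_iff.1 e))) hk
    · exact absurd (e ▸ dvd_rfl) h2
    · exact e
    · exfalso
      have hcm : Commute t ((k : C) : G) :=
        (mem_centralizer_singleton_iff.1 (k : C).2).symm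
      rcases h.eq_one_or_r e hcm with e' | e' <;> rw [ht2] at e'
      · omega
      · exact h.hr2 e'.symm
    · exact absurd (e ▸ dvd_mul_right 2 p) h2
  have hcard : Nat.card K * Nat.card (S : Subgroup G) = Nat.card C := by
    rw [← hc.card_mul_card, ← Nat.card_congr (subgroupOfEquivOfLe hSC).toEquiv]
    rfl
  have hp_mem : ∀ y : G, orderOf y = p → ∀ hy : y ∈ C, (⟨y, hy⟩ : C) ∈ K := by
    intro y hy hyC
    set z := MonoidHom.transferSylow S' hle ⟨y, hyC⟩
    have h1 : orderOf z ∣ p := by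
      rw [← hy, ← orderOf_mk y hyC]; exact orderOf_map_dvd _ _
    have h2 : orderOf z ∣ Nat.card (S' : Subgroup C) := orderOf_dvd_natCard z
    obtain ⟨i, hi⟩ := IsPGroup.iff_card.1 S'.isPGroup'
    rw [hi] at h2
    rcases h.hp.eq_one_or_self_of_dvd _ h1 with e | e
    · exact MonoidHom.mem_ker.2 (orderOf_eq_one_iff.1 e)
    · rw [e] at h2
      exact absurd ((Nat.prime_dvd_prime_iff_eq h.hp Nat.prime_two).1
        (h.hp.dvd_of_dvd_pow h2)) h.hp2
  have hpin : pIn p t + 1 = Nat.card K := by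
    have e : {y : G // orderOf y = p ∧ Commute t y} ≃ {k : K // k ≠ 1} :=
      { toFun := fun y => ⟨⟨⟨y.1, mem_centralizer_singleton_iff.2 y.2.2.symm.eq⟩,
          hp_mem _ y.2.1 _⟩, fun e => h.hp.ne_one (by
            rw [← y.2.1, show (y : G) = 1 from congrArg (fun k : K => ((k : C) : G)) e,
              orderOf_one])⟩
        invFun := fun k => ⟨((k.1 : C) : G), hord k.1 k.2,
          (mem_centralizer_singleton_iff.1 (k.1 : C).2).symm⟩
        left_inv := fun y => rfl
        right_inv := fun k => rfl }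
    haveI := Fintype.ofFinite K
    rw [pIn, Nat.card_congr e, Nat.card_eq_fintype_card, Fintype.card_subtype_compl,
      Fintype.card_subtype_eq, ← Nat.card_eq_fintype_card]
    have := Nat.card_pos (α := K)
    omega
  refine ⟨⟨K.map C.subtype, ?_, ?_, map_subtype_le _, ?_⟩, by rw [hpin, hcard]⟩
  · intro e
    have h1 := congrArg (fun H : Subgroup G => Nat.card H) e
    rw [card_map_of_injective C.subtype_injective, card_bot] at h1
    have := h.pIn_pos ht2
    omega
  · haveI := Fact.mk h.hp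
    refine IsPGroup.iff_orderOf.2 ?_
    rintro ⟨_, hx⟩
    obtain ⟨k, hk, rfl⟩ := mem_map.1 hx
    rw [orderOf_mk]
    by_cases hk1 : (⟨k, hk⟩ : K) = 1
    · exact ⟨0, by rw [show k = 1 from congrArg Subtype.val hk1, map_one, orderOf_one, pow_zero]⟩
    · exact ⟨1, by rw [pow_one]; exact hord ⟨k, hk⟩ hk1⟩
  · exact hSC.trans (by
      intro c hcC
      haveI : K.Normal := MonoidHom.normal_ker _
      refine le_normalizer_map C.subtype ⟨⟨c, hcC⟩, ?_, rfl⟩
      rw [normalizer_eq_top]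
      exact mem_top _)

end Hard

end Cfsg.Agent.H9.FiveOrbits
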