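import Cfsg.Agent.H59.CIT.SimpleEPPO
import Cfsg.Agent.H59.CIT.SimpleFacts
import Cfsg.Agent.H59.CIT.LThreeFour
import Cfsg.Agent.H57.SzClassSquare
import Cfsg.Agent.H57.SzStab
import Cfsg.Agent.H37.SmallIso

/-!
Groups on the list of simple CIT groups with at most five element orders.
-/

set_option autoImplicit false
set_option linter.style.haveILetI false
set_option linter.unusedSectionVars false

namespace Cfsg.Agent.H9.FiveOrbits

universe u

/-- Six different element orders are too many. -/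
theorem no_six {A : Type*} [Group A] [Finite A]
    (h : (Set.range (orderOf : A → ℕ)).ncard ≤ 5) {a b c d e f : ℕ}
    (ha : ∃ x : A, orderOf x = a) (hb : ∃ x : A, orderOf x = b) (hc : ∃ x : A, orderOf x = c)
    (hd : ∃ x : A, orderOf x = d) (he : ∃ x : A, orderOf x = e) (hf : ∃ x : A, orderOf x = f)
    (hne : [a, b, c, d, e, f].Nodup) : False := by
  classical
  have hsub : (([a, b, c, d, e, f].toFinset : Finset ℕ) : Set ℕ) ⊆
      Set.range (orderOf : A → ℕ) := by
    intro x hx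
    simp only [List.coe_toFinset, List.mem_cons, List.not_mem_nil, or_false, Set.mem_ofPred_eq] at hx
    rcases hx with rfl | rfl | rfl | rfl | rfl | rfl <;> assumption
  have h1 := Set.ncard_le_ncard hsub (Set.toFinite _)
  rw [Set.ncard_coe_finset, List.toFinset_card_of_nodup hne] at h1
  simp at h1
  omega

theorem range_orderOf_equiv {A B : Type*} [Group A] [Group B] (e : A ≃* B) :
    Set.range (orderOf : A → ℕ) = Set.range (orderOf : B → ℕ) := by
  ext n
  exact ⟨fun ⟨x, hx⟩ => ⟨e x, by rw [MulEquiv.orderOf_eq, hx]⟩,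
    fun ⟨x, hx⟩ => ⟨e.symm x, by rw [MulEquiv.orderOf_eq, hx]⟩⟩

theorem sz_six {F : Type*} [Field F] [Fintype F] {m : ℕ} (hm : 1 ≤ m)
    (hF : Fintype.card F = 2 ^ (2 * m + 1))
    (h : (Set.range (orderOf : Cfsg.Sz F m → ℕ)).ncard ≤ 5) : False := by
  classical
  obtain ⟨Ap, Am, -, -, hcp, hcm, -, -⟩ := H57.tor_summary hm hF
  set q := 2 ^ (2 * m + 1) with hq
  set r := 2 ^ (m + 1) with hr
  have hrq : r ≤ q := H57.r_le_q m
  have hsq : r ^ 2 = 2 * q := H57.r_sq m
  have h4r : 4 ≤ r := by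
    rw [hr]; exact le_trans (by norm_num) (Nat.pow_le_pow_right two_pos (show 2 ≤ m + 1 by omega))
  have hrlt : r < q := Nat.pow_lt_pow_right (by norm_num) (by omega)
  have hr2 : 2 ∣ r := dvd_pow_self 2 (by omega)
  have hq2 : 2 ∣ q := dvd_pow_self 2 (by omega)
  have hcard := H57.card_sz hm hF
  have pick : ∀ n : ℕ, n ≠ 1 → ¬ 2 ∣ n → n ∣ Nat.card (Cfsg.Sz F m) →
      ∃ l : ℕ, l.Prime ∧ l ∣ n ∧ l ≠ 2 ∧ ∃ x : Cfsg.Sz F m, orderOf x = l := by
    intro n hn1 hn2 hnd
    obtain ⟨l, hl, hld⟩ := Nat.exists_prime_and_dvd hn1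
    haveI := Fact.mk hl
    exact ⟨l, hl, hld, fun e => hn2 (e ▸ hld), exists_prime_orderOf_dvd_card' l (hld.trans hnd)⟩
  obtain ⟨a, ha, had, ha2, hax⟩ := pick (q - 1) (by omega) (by omega) (by
    rw [hcard]; exact dvd_mul_left _ _)
  obtain ⟨b, hb, hbd, hb2, hbx⟩ := pick (q + r + 1) (by omega) (by omega)
    (hcp ▸ Subgroup.card_subgroup_dvd_card Ap)
  obtain ⟨c, hc, hcd, hc2, hcx⟩ := pick (q - r + 1) (by omega) (by omega)
    (hcm ▸ Subgroup.card_subgroup_dvd_card Am)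
  have hprod : (q + r + 1) * (q - r + 1) = q ^ 2 + 1 := by
    obtain ⟨k, hk⟩ := Nat.exists_eq_add_of_le hrq
    rw [hk] at hsq ⊢
    rw [Nat.add_sub_cancel_left]
    linarith [show (r + k + r + 1) * (k + 1) + r ^ 2 = (r + k) ^ 2 + 2 * (r + k) + 1 by ring]
  have hsep : ∀ l : ℕ, l.Prime → l ≠ 2 → l ∣ q ^ 2 + 1 → ¬ l ∣ q - 1 := by
    intro l hl hl2 h1 h2
    have h3 : l ∣ (q - 1) * (q + 1) + 2 := by
      have : (q - 1) * (q + 1) + 2 = q ^ 2 + 1 := by
        obtain ⟨k, hk⟩ := Nat.exists_eq_add_of_le (show 1 ≤ q by omega)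
        rw [hk, Nat.add_sub_cancel_left]; ring
      rwa [this]
    exact hl2 ((Nat.prime_dvd_prime_iff_eq hl Nat.prime_two).1
      ((Nat.dvd_add_right (dvd_mul_of_dvd_left h2 _)).1 h3))
  have hab : a ≠ b := fun e => hsep b hb hb2 (hprod ▸ dvd_mul_of_dvd_left hbd _) (e ▸ had)
  have hac : a ≠ c := fun e => hsep c hc hc2 (hprod ▸ dvd_mul_of_dvd_right hcd _) (e ▸ had)
  have hbc : b ≠ c := by
    intro e
    subst e
    have h1 : b ∣ 2 * r := by
      have := Nat.dvd_sub hbd hcd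
      rwa [show q + r + 1 - (q - r + 1) = 2 * r by omega] at this
    rw [show 2 * r = 2 ^ (m + 2) by rw [hr, ← pow_succ']] at h1
    exact hb2 ((Nat.prime_dvd_prime_iff_eq hb Nat.prime_two).1 (hb.dvd_of_dvd_pow h1))
  have h4 : ∀ l : ℕ, l.Prime → l ≠ 4 ∧ l ≠ 1 := fun l hl =>
    ⟨fun e => absurd (e ▸ hl) (by norm_num), hl.ne_one⟩
  refine no_six h (a := 1) (b := 2) (c := 4) ⟨1, orderOf_one⟩
    ⟨_, H57.orderOf_tEl_zero hF (c := 1) one_ne_zero⟩
    ⟨_, H57.orderOf_tEl_four hF (a := 1) (b := 0) one_ne_zero⟩ hax hbx hcx ?_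
  simp [hab, hac, hbc, ha2.symm, hb2.symm, hc2.symm, (h4 a ha).1.symm, (h4 b hb).1.symm,
    (h4 c hc).1.symm, (h4 a ha).2.symm, (h4 b hb).2.symm, (h4 c hc).2.symm]

theorem psl34_six {F : Type*} [Field F] [Fintype F] (hF : Fintype.card F = 4)
    (h : (Set.range (orderOf : Matrix.ProjectiveSpecialLinearGroup (Fin 3) F → ℕ)).ncard ≤ 5) :
    False := by
  classical
  obtain ⟨e⟩ := H59.CIT.exists_k4_equiv hF
  have hcard := H59.CIT.card_psl34 hF
  have pick : ∀ l : ℕ, l.Prime → l ∣ 20160 →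
      ∃ x : Matrix.ProjectiveSpecialLinearGroup (Fin 3) F, orderOf x = l := fun l hl hd => by
    haveI := Fact.mk hl
    exact exists_prime_orderOf_dvd_card' l (hcard.symm ▸ hd)
  let v : H59.CIT.SL34 := ⟨!![1, 1, 0; 0, 1, 1; 0, 0, 1], by decide +kernel⟩
  have hv : ¬ H59.CIT.ScalarEq (v ^ 2) 1 ∧ H59.CIT.ScalarEq (v ^ 4) 1 := by decide +kernel
  rw [← H59.CIT.phi34_eq_iff e, ← H59.CIT.phi34_eq_iff e, map_pow, map_pow, map_one] at hv
  haveI : Fact (Nat.Prime 2) := ⟨Nat.prime_two⟩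
  have h4 : orderOf (H59.CIT.phi34 e v) = 4 :=
    orderOf_eq_prime_pow (p := 2) (n := 1) (by simpa using hv.1) (by simpa using hv.2)
  exact no_six h (a := 1) (b := 2) (c := 3) (d := 4) (e := 5) (f := 7) ⟨1, orderOf_one⟩
    (pick 2 Nat.prime_two (by norm_num)) (pick 3 Nat.prime_three (by norm_num)) ⟨_, h4⟩
    (pick 5 (by norm_num) (by norm_num)) (pick 7 (by norm_num) (by norm_num)) (by decide)

theorem psl2_cases {G : Type u} [Group G] [Finite G] [IsSimpleGroup G] (hG : ¬ IsMulCommutative G)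
    {F : Type} [Field F] [Fintype F] (e : G ≃* Matrix.ProjectiveSpecialLinearGroup (Fin 2) F)
    (h : (Set.range (orderOf : G → ℕ)).ncard ≤ 5)
    (hF : (∃ n : ℕ, Fintype.card F = 2 ^ n) ∨
      ((Fintype.card F).Prime ∧
        ∃ k : ℕ, Fintype.card F = 2 ^ k + 1 ∨ Fintype.card F + 1 = 2 ^ k)) :
    Fintype.card F ∈ ({4, 5, 7, 8} : Finset ℕ) := by
  classical
  obtain ⟨p, hpc⟩ := CharP.exists F
  haveI := Fact.mk (CharP.char_is_prime F p)
  set q := Fintype.card F with hq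
  have hq2 : 2 ≤ q := Fintype.one_lt_card
  have hq4 : 4 ≤ q := by
    by_contra hlt
    exact H59.CIT.psl2_small_not hG e (by omega)
  have hpq : p ∣ q := (CharP.cast_eq_zero_iff F p q).1 (FiniteField.cast_card_eq_zero F)
  rw [range_orderOf_equiv e] at h
  have hspec : ∀ x, x ∣ p ∨ x ∣ (q - 1) / Nat.gcd 2 (q - 1) ∨ x ∣ (q + 1) / Nat.gcd 2 (q - 1) →
      ∃ g : Matrix.ProjectiveSpecialLinearGroup (Fin 2) F, orderOf g = x := by
    intro x hd
    have hx' : x ∈ {m | m ∣ p ∨ m ∣ (q - 1) / Nat.gcd 2 (q - 1) ∨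
        m ∣ (q + 1) / Nat.gcd 2 (q - 1)} := hd
    rw [← H64.psl2_spectrum p] at hx'
    exact hx'
  rcases hF with ⟨n, hn⟩ | ⟨hp, k, hk⟩
  · have hn2 : 2 ≤ n := by
      by_contra hlt
      have : 2 ^ n ≤ 2 ^ 1 := Nat.pow_le_pow_right two_pos (by omega)
      omega
    have hp2 : p = 2 := (Nat.prime_dvd_prime_iff_eq (Fact.out : p.Prime) Nat.prime_two).1
      ((Fact.out : p.Prime).dvd_of_dvd_pow (hn ▸ hpq))
    have hd1 : Nat.gcd 2 (q - 1) = 1 := by
      rw [← Nat.coprime_iff_gcd_eq_one, Nat.coprime_two_left]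
      have : 2 ∣ q := hn ▸ dvd_pow_self 2 (by omega)
      rw [Nat.odd_iff]
      omega
    rw [hd1, Nat.div_one, Nat.div_one, hp2] at hspec
    -- `x` is the neighbour of `q` divisible by three, `z` the other one
    have key : ∀ x z : ℕ, 3 ∣ x → (x = q - 1 ∧ z = q + 1 ∨ x = q + 1 ∧ z = q - 1) →
        x = 3 ∨ x = 9 := by
      intro x z h3 hxz
      by_contra hne
      push Not at hne
      obtain ⟨y, hy⟩ := h3
      have hxd : ∀ w, w ∣ x → ∃ g : Matrix.ProjectiveSpecialLinearGroup (Fin 2) F,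
          orderOf g = w := fun w hw => hspec w (by
        rcases hxz with ⟨rfl, -⟩ | ⟨rfl, -⟩ <;> [exact Or.inr (Or.inl hw); exact Or.inr (Or.inr hw)])
      have hz : ∃ g : Matrix.ProjectiveSpecialLinearGroup (Fin 2) F, orderOf g = z := hspec z (by
        rcases hxz with ⟨-, rfl⟩ | ⟨-, rfl⟩ <;> [exact Or.inr (Or.inr dvd_rfl); exact Or.inr (Or.inl dvd_rfl)])
      have hqe : 2 ∣ q := hn ▸ dvd_pow_self 2 (by omega)
      have hz3 : z ≠ 3 ∧ z ≠ y := by
        refine ⟨by omega, fun e => ?_⟩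
        rcases hxz with ⟨hx, hz'⟩ | ⟨hx, hz'⟩ <;> omega
      refine no_six h ⟨1, orderOf_one⟩ (hspec 2 (Or.inl dvd_rfl)) (hxd 3 ⟨y, hy⟩)
        (hxd y ⟨3, by rw [hy, mul_comm]⟩) (hxd x dvd_rfl) hz ?_
      simp only [List.nodup_cons, List.mem_cons, List.not_mem_nil, or_false, not_or,
        List.nodup_nil, and_true, not_false_eq_true]
      omega
    rcases Nat.even_or_odd n with he | ho
    · rcases key (q - 1) (q + 1) (hn ▸ H59.CIT.three_dvd_two_pow_sub_one he) (Or.inl ⟨rfl, rfl⟩)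
        with h1 | h1
      · simp [show q = 4 by omega]
      · exfalso
        have : 2 ^ 3 < q ∧ q < 2 ^ 4 := by omega
        rw [hn] at this
        have h3 := (Nat.pow_lt_pow_iff_right (by norm_num)).1 this.1
        have h4 := (Nat.pow_lt_pow_iff_right (by norm_num)).1 this.2
        omega
    · rcases key (q + 1) (q - 1) (hn ▸ H59.CIT.three_dvd_two_pow_add_one ho) (Or.inr ⟨rfl, rfl⟩)
        with h1 | h1
      · omega
      · simp [show q = 8 by omega]
  · have hpe : p = q := (Nat.prime_dvd_prime_iff_eq (Fact.out : p.Prime) hp).1 hpq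
    have hodd : Odd q := hp.odd_of_ne_two (by omega)
    have hd2 : Nat.gcd 2 (q - 1) = 2 := Nat.gcd_eq_left (by
      rw [Nat.odd_iff] at hodd; omega)
    rw [hd2, hpe] at hspec
    have hk2 : 2 ≤ k := by
      by_contra hlt
      have : 2 ^ k ≤ 2 := by
        have := Nat.pow_le_pow_right (show 0 < 2 by norm_num) (show k ≤ 1 by omega)
        rwa [pow_one] at this
      omega
    by_cases hk4 : k ≤ 3
    · have : k = 2 ∨ k = 3 := by omega
      rcases this with rfl | rfl <;> norm_num at hk <;> rcases hk with hk | hk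
      · simp [show q = 5 by omega]
      · omega
      · exact absurd (show Nat.Prime 9 from (show q = 9 by omega) ▸ hp) (by norm_num)
      · simp [show q = 7 by omega]
    exfalso
    have hhalf : 2 ^ k = 2 * 2 ^ (k - 1) := by rw [← pow_succ', Nat.sub_add_cancel (by omega)]
    have h16 : 16 ≤ 2 ^ k :=
      le_trans (by norm_num) (Nat.pow_le_pow_right two_pos (show 4 ≤ k by omega))
    have h4 : 4 ∣ 2 ^ (k - 1) := by
      rw [show (4 : ℕ) = 2 ^ 2 by norm_num]; exact pow_dvd_pow 2 (by omega)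
    -- `x` is the odd half-neighbour
    obtain ⟨x, hx3, hx, h4'⟩ : ∃ x, 3 ∣ x ∧ (x ∣ (q - 1) / 2 ∨ x ∣ (q + 1) / 2) ∧
        (4 ∣ (q - 1) / 2 ∨ 4 ∣ (q + 1) / 2) ∧ 3 < x ∧ x < q ∧ ¬ 2 ∣ x := by
      rcases hk with hk | hk
      · have hke : Even k := by
          by_contra hne
          rcases hp.eq_one_or_self_of_dvd 3
            (hk ▸ H59.CIT.three_dvd_two_pow_add_one (Nat.not_even_iff_odd.1 hne)) with h3 | h3 <;>
            omega
        refine ⟨2 ^ (k - 1) + 1,
          H59.CIT.three_dvd_two_pow_add_one (Nat.Even.sub_odd (by omega) hke odd_one), ?_, ?_,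
          by omega, by omega, by omega⟩
        · right; rw [show (q + 1) / 2 = 2 ^ (k - 1) + 1 by omega]
        · left; rw [show (q - 1) / 2 = 2 ^ (k - 1) by omega]; exact h4
      · have hko : Odd k := by
          by_contra hne
          rcases hp.eq_one_or_self_of_dvd 3
            (show 3 ∣ q by
              rw [show q = 2 ^ k - 1 by omega]
              exact H59.CIT.three_dvd_two_pow_sub_one (Nat.not_odd_iff_even.1 hne)) with h3 | h3 <;>
            omega
        refine ⟨2 ^ (k - 1) - 1,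
          H59.CIT.three_dvd_two_pow_sub_one (Nat.Odd.sub_odd hko odd_one), ?_, ?_,
          by omega, by omega, by omega⟩
        · left; rw [show (q - 1) / 2 = 2 ^ (k - 1) - 1 by omega]
        · right; rw [show (q + 1) / 2 = 2 ^ (k - 1) by omega]; exact h4
    obtain ⟨h4', hx1, hxq, hxo⟩ := h4'
    refine no_six h (a := 1) (b := 2) (c := 3) (d := 4) (e := x) (f := q) ⟨1, orderOf_one⟩
      (hspec 2 (h4'.elim (fun d => Or.inr (Or.inl (dvd_trans (by norm_num) d)))
        fun d => Or.inr (Or.inr (dvd_trans (by norm_num) d))))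
      (hspec 3 (hx.elim (fun d => Or.inr (Or.inl (hx3.trans d)))
        fun d => Or.inr (Or.inr (hx3.trans d))))
      (hspec 4 (h4'.elim (fun d => Or.inr (Or.inl d)) fun d => Or.inr (Or.inr d)))
      (hspec x (hx.elim (fun d => Or.inr (Or.inl d)) fun d => Or.inr (Or.inr d)))
      (hspec q (Or.inl dvd_rfl)) ?_
    simp only [List.nodup_cons, List.mem_cons, List.not_mem_nil, or_false, not_or,
      List.nodup_nil, and_true, not_false_eq_true]
    omega

/-- The simple CIT groups with at most five element orders. -/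
theorem list_of_cit (hc : H11.CIT.CITClass.{u}) {G : Type u} [Group G] [Finite G] [IsSimpleGroup G]
    (hG : ¬ IsMulCommutative G) (hcit : H11.CIT.IsCIT G)
    (h : (Set.range (orderOf : G → ℕ)).ncard ≤ 5) :
    Nonempty (G ≃* ↥(alternatingGroup (Fin 5))) ∨ Nonempty (G ≃* ↥(alternatingGroup (Fin 6))) ∨
      (∃ (F : Type) (_ : Field F) (_ : Fintype F), (Fintype.card F = 7 ∨ Fintype.card F = 8) ∧
        Nonempty (G ≃* Matrix.ProjectiveSpecialLinearGroup (Fin 2) F)) := by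
  rcases hc G hG hcit with ⟨F, _, _, hF, ⟨e⟩⟩ | ⟨F, _, _, hF, ⟨e⟩⟩ | ⟨F, _, _, m, hm, hF, ⟨e⟩⟩
  · rcases hF with hF | hF
    · obtain ⟨i⟩ := H37.PSL2_nine_mulEquiv_alternating hF
      exact Or.inr (Or.inl ⟨e.trans i⟩)
    · have := psl2_cases hG e h hF
      simp only [Finset.mem_insert, Finset.mem_singleton] at this
      rcases this with h4 | h5 | h7 | h8
      · obtain ⟨i⟩ := H37.PSL2_four_mulEquiv_alternating (F := F)
          (by rw [Nat.card_eq_fintype_card, h4])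
        exact Or.inl ⟨e.trans i⟩
      · obtain ⟨i⟩ := H37.PSL2_five_mulEquiv_alternating (F := F) h5
        exact Or.inl ⟨e.trans i⟩
      · exact Or.inr (Or.inr ⟨F, inferInstance, inferInstance, Or.inl h7, ⟨e⟩⟩)
      · exact Or.inr (Or.inr ⟨F, inferInstance, inferInstance, Or.inr h8, ⟨e⟩⟩)
  · exact (psl34_six hF (range_orderOf_equiv e ▸ h)).elim
  · exact (sz_six hm hF (range_orderOf_equiv (e.trans (H57.lieSzEquiv hm hF).symm) ▸ h)).elim

end Cfsg.Agent.H9.FiveOrbits
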