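import Cfsg.Agent.H9.FiveOrbits.Final
import Cfsg.Agent.H9.FiveOrbits.Spectrum

/-!
Simple groups with at most five orbits of the automorphism group.
-/

set_option autoImplicit false
set_option linter.style.haveILetI false
set_option linter.unusedSectionVars false

namespace Cfsg.Agent.H9.FiveOrbits

open Subgroup

universe u

variable {G : Type u} [Group G] [Finite G]

/-- The element order, on orbits of the automorphism group. -/
noncomputable def orbOrder : MulAction.orbitRel.Quotient (MulAut G) G → ℕ :=
  Quotient.lift (s := MulAction.orbitRel (MulAut G) G) orderOf fun _ _ hab => by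
    obtain ⟨α, rfl⟩ := hab
    exact MulEquiv.orderOf_eq α _

theorem range_orbOrder : Set.range (orbOrder (G := G)) = Set.range (orderOf : G → ℕ) :=
  Set.range_quotient_lift (s := MulAction.orbitRel (MulAut G) G) _

theorem ncard_orders_le :
    (Set.range (orderOf : G → ℕ)).ncard ≤
      Nat.card (MulAction.orbitRel.Quotient (MulAut G) G) := by
  rw [← range_orbOrder, ← Nat.card_coe_set_eq]
  exact Finite.card_range_le _

/-- A simple group with at most five orbits is a CIT group. -/
theorem isCIT_of_orbits [IsSimpleGroup G] (hG : ¬ IsMulCommutative G)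
    (h5 : Nat.card (MulAction.orbitRel.Quotient (MulAut G) G) ≤ 5) : H11.CIT.IsCIT G := by
  classical
  haveI : Fact (Nat.Prime 2) := ⟨Nat.prime_two⟩
  intro t ht
  refine IsPGroup.iff_orderOf.2 fun x => ?_
  by_contra hx
  obtain ⟨p, hp, hpd, hp2⟩ : ∃ p : ℕ, p.Prime ∧ p ∣ orderOf x ∧ p ≠ 2 := by
    by_contra hall
    exact hx ⟨_, Nat.eq_prime_pow_of_unique_prime_dvd (orderOf_pos x).ne'
      fun {d} hd hdd => by_contra fun e => hall ⟨d, hd, hdd, e⟩⟩
  haveI := Fact.mk hp
  obtain ⟨y, hy, hty⟩ : ∃ y : G, orderOf y = p ∧ Commute t y := by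
    refine ⟨((x ^ (orderOf x / p) : centralizer ({t} : Set G)) : G), ?_, ?_⟩
    · rw [orderOf_coe]; exact orderOf_pow_orderOf_div (orderOf_pos x).ne' hpd
    · exact (mem_centralizer_singleton_iff.1 (x ^ (orderOf x / p)).2).symm
  have h2p : orderOf (t * y) = 2 * p := by
    rw [hty.orderOf_mul_eq_mul_orderOf_of_coprime
      (by rw [ht, hy]; exact (Nat.coprime_primes Nat.prime_two hp).2 (Ne.symm hp2)), ht, hy]
  obtain ⟨r, hr, hr2, hrp, z, hz⟩ :
      ∃ r : ℕ, r.Prime ∧ r ≠ 2 ∧ r ≠ p ∧ ∃ z : G, orderOf z = r := by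
    by_contra hall
    refine hG ⟨⟨fun a b => ?_⟩⟩
    haveI : Group.IsSolvable G := H33.isSolvable_of_two_primes Nat.prime_two hp fun q hq hd => by
      by_contra hne
      push Not at hne
      haveI := Fact.mk hq
      exact hall ⟨q, hq, hne.1, hne.2, exists_prime_orderOf_dvd_card' q hd⟩
    exact (IsSimpleGroup.comm_iff_isSolvable.2 inferInstance) a b
  have hr2p : r ≠ 2 * p := fun e => Nat.not_prime_mul (by norm_num) hp.ne_one (e ▸ hr)
  let V : Finset ℕ := {1, 2, p, r, 2 * p}
  have hV : V.card = 5 := by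
    have := hp.two_le; have := hr.two_le
    simp only [V]
    rw [Finset.card_insert_of_notMem (by simp; omega), Finset.card_insert_of_notMem (by simp; omega),
      Finset.card_insert_of_notMem (by simp; omega), Finset.card_insert_of_notMem (by simp; omega),
      Finset.card_singleton]
  have hsub : (V : Set ℕ) ⊆ Set.range (orderOf : G → ℕ) := by
    intro n hn
    simp only [V, Finset.coe_insert, Finset.coe_singleton, Set.mem_insert_iff,
      Set.mem_singleton_iff] at hn
    rcases hn with rfl | rfl | rfl | rfl | rfl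
    exacts [⟨1, orderOf_one⟩, ⟨t, ht⟩, ⟨y, hy⟩, ⟨z, hz⟩, ⟨_, h2p⟩]
  have hle := ncard_orders_le (G := G)
  have heq : (V : Set ℕ) = Set.range (orderOf : G → ℕ) :=
    Set.eq_of_subset_of_ncard_le hsub (by rw [Set.ncard_coe_finset, hV]; omega) (Set.toFinite _)
  have hcard : Nat.card (MulAction.orbitRel.Quotient (MulAut G) G) =
      Nat.card (Set.range (orbOrder (G := G))) := by
    rw [Nat.card_coe_set_eq, range_orbOrder, ← heq, Set.ncard_coe_finset, hV]
    have : 5 ≤ (Set.range (orderOf : G → ℕ)).ncard := by rw [← heq, Set.ncard_coe_finset, hV]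
    omega
  have hinj : Function.Injective (orbOrder (G := G)) := by
    have hb := (Nat.bijective_iff_surjective_and_card (Set.rangeFactorization (orbOrder (G := G)))).2
      ⟨Set.rangeFactorization_surjective, hcard⟩
    exact fun a b e => hb.1 (Subtype.ext e)
  have hard : Hard G p r :=
    { hp := hp, hr := hr, hp2 := hp2, hr2 := hr2, hpr := Ne.symm hrp, simple := inferInstance
      noncomm := hG
      orders := fun g => by
        have : orderOf g ∈ (V : Set ℕ) := heq ▸ ⟨g, rfl⟩
        simpa [V] using this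
      exR := ⟨z, hz⟩, exTwoP := ⟨_, h2p⟩
      aut := fun a b e => by
        obtain ⟨α, hα⟩ := Quotient.exact (s := MulAction.orbitRel (MulAut G) G)
          (hinj (a₁ := Quotient.mk (MulAction.orbitRel (MulAut G) G) b)
            (a₂ := Quotient.mk (MulAction.orbitRel (MulAut G) G) a) e.symm)
        exact ⟨α, hα⟩ }
  exact hard.false

/-- The classification of simple groups with at most five orbits, given that of CIT groups. -/
theorem five_orbits_of_class (hc : H11.CIT.CITClass.{u}) [IsSimpleGroup G]
    (hG : ¬ IsMulCommutative G)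
    (h5 : Nat.card (MulAction.orbitRel.Quotient (MulAut G) G) ≤ 5) :
    Nonempty (G ≃* ↥(alternatingGroup (Fin 5))) ∨ Nonempty (G ≃* ↥(alternatingGroup (Fin 6))) ∨
      (∃ (F : Type) (_ : Field F) (_ : Fintype F), (Fintype.card F = 7 ∨ Fintype.card F = 8) ∧
        Nonempty (G ≃* Matrix.ProjectiveSpecialLinearGroup (Fin 2) F)) :=
  list_of_cit hc hG (isCIT_of_orbits hG h5) (ncard_orders_le.trans h5)

end Cfsg.Agent.H9.FiveOrbits
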