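import Cfsg.Agent.H9.FiveOrbits.Local
import Cfsg.Agent.H1.Fitting
import Cfsg.Agent.H33.TwoPrime

/-!
The case in which every involution centralizer has a normal Sylow `2`-subgroup.
-/

set_option autoImplicit false
set_option linter.unusedSectionVars false
set_option linter.style.haveILetI false

open scoped Pointwise

namespace Cfsg.Agent.H9.FiveOrbits

open Subgroup

universe u

variable {G : Type u} [Group G] [Finite G]

namespace Hard

variable {p r : ℕ} (h : Hard G p r) (S : Sylow 2 G)
include h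

theorem exists_two_mem : ∃ t ∈ (S : Subgroup G), orderOf t = 2 := by
  haveI : Fact (Nat.Prime 2) := ⟨Nat.prime_two⟩
  obtain ⟨t, ht⟩ := exists_prime_orderOf_dvd_card' 2
    (show 2 ∣ Nat.card (S : Subgroup G) from S.dvd_card_of_dvd_card h.two_dvd_card)
  exact ⟨t, t.2, by rw [orderOf_coe, ht]⟩

theorem cent_le_normalizer {t : G} (ht : t ∈ (S : Subgroup G)) (ht2 : orderOf t = 2)
    (hno : ¬ HasInv p (S : Subgroup G) t) :
    centralizer ({t} : Set G) ≤ normalizer ((S : Subgroup G) : Set G) := by
  classical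
  haveI : Fact (Nat.Prime 2) := ⟨Nat.prime_two⟩
  set C := centralizer ({t} : Set G) with hC
  have hSC := h.sylow_le_centralizer S.isPGroup' ht
  have hprimes : ∀ q : ℕ, q.Prime → q ∣ Nat.card C → q = 2 ∨ q = p := by
    intro q hq hd
    rcases h.prime_of_dvd hq (hd.trans (card_subgroup_dvd_card C)) with e | e | e
    · exact Or.inl e
    · exact Or.inr e
    · exfalso
      haveI := Fact.mk hq
      obtain ⟨g, hg⟩ := exists_prime_orderOf_dvd_card' q hd
      rcases h.eq_one_or_r (g := t) (x := (g : G)) (by rw [orderOf_coe, hg, e])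
        (mem_centralizer_singleton_iff.1 g.2).symm with e' | e' <;> rw [ht2] at e'
      · omega
      · exact h.hr2 e'.symm
  have hsolv : Group.IsSolvable C :=
    H33.isSolvable_of_two_primes Nat.prime_two h.hp hprimes
  let S' : Sylow 2 C := S.subtype hSC
  have hcores : ∀ q : Nat.Primes, pCore (q : ℕ) C ≤ (S' : Subgroup C) := by
    rintro ⟨q, hq⟩
    haveI := Fact.mk hq
    show pCore q C ≤ _
    by_cases hq2 : q = 2
    · subst hq2
      rw [H1.pCore_eq_iInf_sylow 2]
      exact iInf_le _ S'
    by_cases hbot : pCore q C = ⊥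
    · rw [hbot]; exact bot_le
    exfalso
    have hqp : q = p := by
      refine (hprimes q hq ?_).resolve_left hq2
      obtain ⟨n, hn⟩ := IsPGroup.iff_card.1 (H1.isPGroup_pCore q C)
      have hn0 : n ≠ 0 := fun e => hbot (eq_bot_of_card_eq _ (by rw [hn, e, pow_zero]))
      exact (dvd_pow_self q hn0).trans (hn ▸ card_subgroup_dvd_card _)
    subst hqp
    refine hno ⟨(pCore q C).map C.subtype, ?_, (H1.isPGroup_pCore q C).map _, map_subtype_le _, ?_⟩
    · rw [Ne, map_eq_bot_iff_of_injective _ C.subtype_injective]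
      exact hbot
    · refine hSC.trans fun c hcC => le_normalizer_map C.subtype ⟨⟨c, hcC⟩, ?_, rfl⟩
      haveI := H1.pCore_normal' q C
      rw [normalizer_eq_top]
      exact mem_top _
  have hF : fittingSubgroup C ≤ (S' : Subgroup C) := by
    rw [H1.fittingSubgroup_eq_iSup_pCore]
    exact iSup_le hcores
  have hSF : (S' : Subgroup C) ≤ fittingSubgroup C := by
    refine le_trans (fun s hs => mem_centralizer_iff.2 fun a ha => Subtype.ext ?_)
      (haveI := hsolv; H1.centralizer_fitting_le_of_isSolvable inferInstance)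
    exact (h.commute_of_mem S.isPGroup' (hF ha) hs).eq
  haveI : (S' : Subgroup C).Normal := by
    rw [← le_antisymm hF hSF]
    exact H1.fittingSubgroup_normal C
  intro c hc
  rw [mem_normalizer_iff]
  intro a
  constructor
  · intro ha
    exact Subgroup.Normal.conj_mem (H := (S' : Subgroup C)) inferInstance ⟨a, hSC ha⟩ ha ⟨c, hc⟩
  · intro ha
    have haC : c⁻¹ * (c * a * c⁻¹) * c ∈ C := mul_mem (mul_mem (inv_mem hc) (hSC ha)) hc
    have := Subgroup.Normal.conj_mem (H := (S' : Subgroup C)) inferInstance ⟨c * a * c⁻¹, hSC ha⟩ ha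
      ⟨c⁻¹, inv_mem hc⟩
    have h' : c⁻¹ * (c * a * c⁻¹) * (c⁻¹)⁻¹ ∈ (S : Subgroup G) := this
    simpa [mul_assoc] using h'

variable (hno : ∀ t ∈ (S : Subgroup G), orderOf t = 2 → ¬ HasInv p (S : Subgroup G) t)
include hno

theorem cent_le_of_two {Q : Sylow 2 G} {v : G} (hvQ : v ∈ (Q : Subgroup G))
    (hv : orderOf v = 2) :
    centralizer ({v} : Set G) ≤ normalizer ((Q : Subgroup G) : Set G) := by
  haveI : Fact (Nat.Prime 2) := ⟨Nat.prime_two⟩
  obtain ⟨g, hg⟩ := MulAction.exists_smul_eq G S Q
  subst hg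
  have hmem : g⁻¹ * v * g ∈ (S : Subgroup G) := by
    have := mem_pointwise_smul_iff_inv_smul_mem.1
      (show v ∈ MulAut.conj g • (S : Subgroup G) from hvQ)
    simpa [MulAut.smul_def] using this
  have hord : orderOf (g⁻¹ * v * g) = 2 := by simpa using H65.two_conj hv g⁻¹
  have hle := h.cent_le_normalizer S hmem hord (hno _ hmem hord)
  intro c hc
  have hc' : g⁻¹ * c * g ∈ centralizer ({g⁻¹ * v * g} : Set G) := by
    rw [mem_centralizer_singleton_iff]
    have := mem_centralizer_singleton_iff.1 hc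
    calc g⁻¹ * c * g * (g⁻¹ * v * g) = g⁻¹ * (c * v) * g := by group
      _ = g⁻¹ * (v * c) * g := by rw [this]
      _ = _ := by group
  refine Sylow.smul_eq_iff_mem_normalizer.1 ?_
  calc c • g • S = g • ((g⁻¹ * c * g) • S) := by rw [← mul_smul, ← mul_smul]; group
    _ = g • S := by rw [Sylow.smul_eq_iff_mem_normalizer.2 (hle hc')]

/-- An involution lies in a unique Sylow `2`-subgroup. -/
theorem sylow_eq {Q Q' : Sylow 2 G} {v : G} (hv : v ∈ (Q : Subgroup G)) (hv' : v ∈ (Q' : Subgroup G))
    (hv2 : orderOf v = 2) : Q = Q' := by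
  haveI : Fact (Nat.Prime 2) := ⟨Nat.prime_two⟩
  refine (Sylow.ext ?_)
  have hle := (h.sylow_le_centralizer Q'.isPGroup' hv').trans (h.cent_le_of_two S hno hv hv2)
  have hsup : IsPGroup 2 ↥((Q' : Subgroup G) ⊔ (Q : Subgroup G)) :=
    Q'.isPGroup'.to_sup_of_normal_right' Q.isPGroup' hle
  exact le_antisymm ((Q'.3 hsup le_sup_left) ▸ le_sup_right) ((Q.3 hsup le_sup_right) ▸ le_sup_left)

/-- No element of order `p` is inverted by an involution. -/
theorem not_inverted {u y : G} (hu : orderOf u = 2) (hy : orderOf y = p) :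
    u * y * u⁻¹ ≠ y⁻¹ := by
  classical
  intro hinv
  haveI : Fact (Nat.Prime 2) := ⟨Nat.prime_two⟩
  haveI := Fintype.ofFinite G
  let Z : Finset G := Finset.univ.filter fun v => orderOf v = 2 ∧ Commute v y
  have huu := H65.mul_self_of_two hu
  have hodd : ¬ 2 ∣ Fintype.card {v // v ∈ Z} := by
    have hC : 2 ∣ Nat.card (centralizer ({y} : Set G)) := by
      obtain ⟨⟨v, hv, hvc⟩⟩ : Nonempty {t : G // orderOf t = 2 ∧ Commute t y} :=
        (Nat.card_pos_iff.1 (h.twoIn_pos hy)).1
      exact hv ▸ (orderOf_mk v (mem_centralizer_singleton_iff.2 hvc.eq) ▸ orderOf_dvd_natCard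
        (⟨v, mem_centralizer_singleton_iff.2 hvc.eq⟩ : centralizer ({y} : Set G)))
    haveI := Fintype.ofFinite (centralizer ({y} : Set G))
    -- the solutions of `v ^ 2 = 1` in the centralizer
    let e : Option {v // v ∈ Z} ≃ {v : centralizer ({y} : Set G) // v * v = 1} :=
      { toFun := fun o => o.elim ⟨1, mul_one 1⟩ fun v => ⟨⟨v.1, mem_centralizer_singleton_iff.2
          (Finset.mem_filter.1 v.2).2.2.eq⟩,
          Subtype.ext (H65.mul_self_of_two (Finset.mem_filter.1 v.2).2.1)⟩
        invFun := fun v => if hv : (v.1 : G) = 1 then none else some ⟨v.1, Finset.mem_filter.2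
          ⟨Finset.mem_univ _, H65.two_iff.2 ⟨congrArg Subtype.val v.2, hv⟩,
            mem_centralizer_singleton_iff.1 v.1.2⟩⟩
        left_inv := by
          rintro (_ | ⟨v, hv⟩)
          · simp
          · have := H65.ne_one_of_two (Finset.mem_filter.1 hv).2.1
            simp [this]
        right_inv := fun v => by
          by_cases hv : (v.1 : G) = 1
          · simp only [hv, dite_true, Option.elim_none]
            exact Subtype.ext (Subtype.ext hv.symm)
          · simp [hv] }
    have heven : 2 ∣ Fintype.card {v : centralizer ({y} : Set G) // v * v = 1} := by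
      have hfix : ∀ (τ : centralizer ({y} : Set G)), orderOf τ = 2 →
          2 ∣ Fintype.card {v : centralizer ({y} : Set G) // v * v = 1} := by
        intro τ hτ
        -- pair `v` with `v ^ τ`; the fixed points pair with `v * τ`
        let f : {v : centralizer ({y} : Set G) // v * v = 1} →
            {v : centralizer ({y} : Set G) // v * v = 1} := fun v =>
          ⟨if Commute v.1 τ then v.1 * τ else τ * v.1 * τ⁻¹, by
            split_ifs with hc
            · rw [hc.symm.mul_mul_mul_comm, v.2, one_mul]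
              exact H65.mul_self_of_two hτ
            · rw [show τ * v.1 * τ⁻¹ * (τ * v.1 * τ⁻¹) = τ * (v.1 * v.1) * τ⁻¹ by group, v.2,
                mul_one, mul_inv_cancel]⟩
        have hττ := H65.mul_self_of_two hτ
        have hτi := H65.inv_of_two hτ
        have hf2 : Function.Involutive f := by
          intro v
          apply Subtype.ext
          simp only [f]
          by_cases hc : Commute v.1 τ
          · rw [if_pos hc, if_pos (hc.mul_left (Commute.refl τ)), mul_assoc, hττ, mul_one]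
          · have hc' : ¬ Commute (τ * v.1 * τ⁻¹) τ := fun hc' => hc (by
              have e := congrArg (fun z => τ⁻¹ * z * τ) hc'.eq
              simpa [mul_assoc, Commute, SemiconjBy] using e)
            rw [if_neg hc, if_neg hc', hτi, show τ * (τ * v.1 * τ) * τ = (τ * τ) * v.1 * (τ * τ) by
              group, hττ, one_mul, mul_one]
        have hfne : ∀ v, f v ≠ v := by
          intro v e
          have e' := congrArg Subtype.val e
          simp only [f] at e'
          by_cases hc : Commute v.1 τ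
          · rw [if_pos hc] at e'
            exact H65.ne_one_of_two hτ (mul_eq_left.1 e')
          · rw [if_neg hc] at e'
            exact hc (mul_inv_eq_iff_eq_mul.1 e').symm
        by_contra hodd
        obtain ⟨a, ha⟩ := Equiv.Perm.exists_fixed_point_of_prime (p := 2) (n := 1) hodd
          (σ := hf2.toPerm f) (by ext x; simp [pow_two, hf2 x])
        exact hfne a ha
      obtain ⟨τ, hτ⟩ := exists_prime_orderOf_dvd_card' 2 hC
      exact hfix τ hτ
    rw [← Fintype.card_congr e, Fintype.card_option] at heven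
    omega
  let g : {v // v ∈ Z} → {v // v ∈ Z} := fun v => ⟨u * v.1 * u⁻¹, by
    obtain ⟨-, hv2, hvy⟩ := Finset.mem_filter.1 v.2
    refine Finset.mem_filter.2 ⟨Finset.mem_univ _, H65.two_conj hv2 u, ?_⟩
    have := (SemiconjBy.conj_mk u v.1)
    have hy' : y = u * y⁻¹ * u⁻¹ := by
      rw [← hinv, show u * (u * y * u⁻¹) * u⁻¹ = (u * u) * y * (u * u)⁻¹ by group, huu]; group
    show u * v.1 * u⁻¹ * y = y * (u * v.1 * u⁻¹)
    rw [hy']
    calc u * v.1 * u⁻¹ * (u * y⁻¹ * u⁻¹) = u * (v.1 * y⁻¹) * u⁻¹ := by group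
      _ = u * (y⁻¹ * v.1) * u⁻¹ := by rw [hvy.inv_right.eq]
      _ = _ := by group⟩
  have hg : Function.Involutive g := fun v => Subtype.ext (by
    show u * (u * v.1 * u⁻¹) * u⁻¹ = v.1
    rw [show u * (u * v.1 * u⁻¹) * u⁻¹ = (u * u) * v.1 * (u * u)⁻¹ by group, huu]; group)
  obtain ⟨⟨v, hvZ⟩, hv⟩ := Equiv.Perm.exists_fixed_point_of_prime (p := 2) (n := 1)
    hodd (σ := hg.toPerm g) (by ext x; simp [pow_two, hg x])
  obtain ⟨-, hv2, hvy⟩ := Finset.mem_filter.1 hvZ
  have huv : u * v = v * u := mul_inv_eq_iff_eq_mul.1 (congrArg Subtype.val hv : u * v * u⁻¹ = v)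
  obtain ⟨Q, hQ⟩ := IsPGroup.exists_le_sylow (IsPGroup.of_card (n := 1)
    (show Nat.card (zpowers v) = 2 ^ 1 by rw [Nat.card_zpowers, hv2, pow_one]))
  have hvQ : v ∈ (Q : Subgroup G) := hQ (mem_zpowers v)
  have hle := h.cent_le_of_two S hno hvQ hv2
  have huQ : u ∈ (Q : Subgroup G) := by
    have hu' := hle (mem_centralizer_singleton_iff.2 huv)
    have hsup : IsPGroup 2 ↥(zpowers u ⊔ (Q : Subgroup G)) :=
      (IsPGroup.of_card (n := 1) (show Nat.card (zpowers u) = 2 ^ 1 by
        rw [Nat.card_zpowers, hu, pow_one])).to_sup_of_normal_right' Q.isPGroup'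
        (zpowers_le.2 hu')
    exact (Q.3 hsup le_sup_right) ▸ le_sup_left (a := zpowers u) (mem_zpowers u)
  have hy' : y * u * y⁻¹ ∈ (Q : Subgroup G) :=
    (mem_normalizer_iff.1 (hle (mem_centralizer_singleton_iff.2 hvy.symm.eq)) u).1 huQ
  have h2 : y * y ∈ (Q : Subgroup G) := by
    have : y * u * y⁻¹ * u⁻¹ ∈ (Q : Subgroup G) := mul_mem hy' (inv_mem huQ)
    rwa [show y * u * y⁻¹ * u⁻¹ = y * (u * y * u⁻¹)⁻¹ by group, hinv, inv_inv] at this
  have h4 := h.sq_eq_one_of_mem Q.isPGroup' h2
  have h4' : orderOf y ∣ 4 := orderOf_dvd_of_pow_eq_one (by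
    rw [pow_succ, pow_succ, pow_two, mul_assoc (y * y)]; exact h4)
  rw [hy, show (4 : ℕ) = 2 * 2 from rfl] at h4'
  rcases h.hp.dvd_mul.1 h4' with e | e <;>
    exact h.hp2 ((Nat.prime_dvd_prime_iff_eq h.hp Nat.prime_two).1 e)

theorem centralizer_sylow : centralizer ((S : Subgroup G) : Set G) = (S : Subgroup G) := by
  classical
  haveI : Fact (Nat.Prime 2) := ⟨Nat.prime_two⟩
  refine le_antisymm (fun g hg => ?_) fun s hs => mem_centralizer_iff.2 fun a ha =>
    (h.commute_of_mem S.isPGroup' ha hs).eq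
  obtain ⟨t, ht, ht2⟩ := h.exists_two_mem S
  have hnoP : ∀ y : G, orderOf y = p → y ∈ centralizer ((S : Subgroup G) : Set G) → False := by
    intro y hy hyS
    refine hno t ht ht2 ⟨zpowers y, ?_, ?_, ?_, ?_⟩
    · rw [Ne, zpowers_eq_bot]
      rintro rfl
      exact h.hp.ne_one (hy.symm.trans orderOf_one)
    · haveI := Fact.mk h.hp
      exact IsPGroup.of_card (n := 1) (by rw [Nat.card_zpowers, hy, pow_one])
    · exact zpowers_le.2 (mem_centralizer_singleton_iff.2 (mem_centralizer_iff.1 hyS t ht).symm)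
    · intro s hs
      have hc : Commute s y := mem_centralizer_iff.1 hyS s hs
      exact Subgroup.centralizer_le_normalizer _ (mem_centralizer_iff.2 fun a ha => by
        obtain ⟨i, rfl⟩ := mem_zpowers_iff.1 ha
        exact (hc.zpow_right i).symm.eq)
  have h2g : ∀ v : G, orderOf v = 2 → v ∈ centralizer ((S : Subgroup G) : Set G) →
      v ∈ (S : Subgroup G) := by
    intro v hv hvS
    have hsup : IsPGroup 2 ↥(zpowers v ⊔ (S : Subgroup G)) :=
      (IsPGroup.of_card (n := 1) (show Nat.card (zpowers v) = 2 ^ 1 by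
        rw [Nat.card_zpowers, hv, pow_one])).to_sup_of_normal_right' S.isPGroup'
        (zpowers_le.2 (Subgroup.centralizer_le_normalizer _ hvS))
    exact (S.3 hsup le_sup_right) ▸ le_sup_left (a := zpowers v) (mem_zpowers v)
  rcases h.orders g with e | e | e | e | e
  · rw [orderOf_eq_one_iff.1 e]; exact one_mem _
  · exact h2g g e hg
  · exact (hnoP g e hg).elim
  · exfalso
    rcases h.eq_one_or_r (g := t) (x := g) e (mem_centralizer_iff.1 hg t ht) with e' | e' <;>
      rw [ht2] at e'
    · omega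
    · exact h.hr2 e'.symm
  · exact (hnoP _ (h.split_twoP e).2.1 (pow_mem hg _)).elim

end Hard

end Cfsg.Agent.H9.FiveOrbits
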