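import Cfsg.Agent.H1.Fitting
import Cfsg.Agent.H33.TwoPrime

/-!
Groups of order `p ^ a * r ^ b` with trivial `p`-core and small `r`-subgroups.
-/

set_option autoImplicit false
set_option linter.unusedSectionVars false
set_option linter.style.haveILetI false

namespace Cfsg.Agent.H9.FiveOrbits

open Subgroup

universe u

variable {Q : Type u} [Group Q] [Finite Q]

/-- The Fitting subgroup has order `r`, contains all elements of order `r` and its centraliser. -/
theorem exists_normal_of_prime {p r : ℕ} (hp : p.Prime) (hr : r.Prime)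
    (hprimes : ∀ q : ℕ, q.Prime → q ∣ Nat.card Q → q = p ∨ q = r) (hO : pCore p Q = ⊥)
    (hdvd : r ∣ Nat.card Q) (hsub : ∀ P : Subgroup Q, IsPGroup r P → Nat.card P ≤ r) :
    ∃ R : Subgroup Q, R.Normal ∧ Nat.card R = r ∧ (∀ x : Q, orderOf x = r → x ∈ R) ∧
      centralizer (R : Set Q) ≤ R := by
  haveI := Fact.mk hr
  haveI := Fact.mk hp
  haveI hn := H1.pCore_normal' r Q
  have hsolv : Group.IsSolvable Q := H33.isSolvable_of_two_primes hp hr hprimes
  have hFle : fittingSubgroup Q ≤ pCore r Q := by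
    rw [H1.fittingSubgroup_eq_iSup_pCore]
    refine iSup_le ?_
    rintro ⟨q, hq⟩
    haveI := Fact.mk hq
    show pCore q Q ≤ _
    by_cases hb : pCore q Q = ⊥
    · rw [hb]; exact bot_le
    obtain ⟨n, hn'⟩ := IsPGroup.iff_card.1 (H1.isPGroup_pCore q Q)
    have hn0 : n ≠ 0 := fun e => hb (eq_bot_of_card_eq _ (by rw [hn', e, pow_zero]))
    rcases hprimes q hq ((dvd_pow_self q hn0).trans (hn' ▸ card_subgroup_dvd_card _)) with e | e
    · subst e; exact absurd hO hb
    · subst e; exact le_rfl
  have hF : fittingSubgroup Q = pCore r Q := by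
    refine le_antisymm hFle (H1.le_fittingSubgroup ?_)
    exact (H1.isPGroup_pCore r Q).isNilpotent
  have hC : centralizer (pCore r Q : Set Q) ≤ pCore r Q := by
    haveI := hsolv
    have := H1.centralizer_fitting_le_of_isSolvable (G := Q) inferInstance
    rwa [hF] at this
  have hne : pCore r Q ≠ ⊥ := by
    intro e
    rw [e] at hC
    have htop : (⊤ : Subgroup Q) ≤ ⊥ :=
      le_trans (fun g _ => mem_centralizer_iff.2 fun a ha => by
        rw [mem_bot.1 ha, one_mul, mul_one]) hC
    have h1 : Nat.card Q ≤ 1 := by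
      have := card_le_of_le htop
      rwa [card_top, card_bot] at this
    have := Nat.le_of_dvd Nat.card_pos hdvd
    have := hr.two_le
    omega
  have hcard : Nat.card (pCore r Q) = r := by
    obtain ⟨n, hn'⟩ := IsPGroup.iff_card.1 (H1.isPGroup_pCore r Q)
    have hn0 : n ≠ 0 := fun e => hne (eq_bot_of_card_eq _ (by rw [hn', e, pow_zero]))
    refine le_antisymm (hsub _ (H1.isPGroup_pCore r Q)) ?_
    rw [hn']
    exact Nat.le_of_dvd (pow_pos hr.pos n) (dvd_pow_self r hn0)
  refine ⟨pCore r Q, hn, hcard, fun x hx => ?_, hC⟩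
  have hsup : IsPGroup r ↥(zpowers x ⊔ pCore r Q) :=
    (IsPGroup.of_card (n := 1) (show Nat.card (zpowers x) = r ^ 1 by
      rw [Nat.card_zpowers, hx, pow_one])).to_sup_of_normal_right (H1.isPGroup_pCore r Q)
  have heq := eq_of_le_of_card_ge (le_sup_right : pCore r Q ≤ zpowers x ⊔ pCore r Q)
    (hcard.symm ▸ hsub _ hsup)
  rw [heq]
  exact mem_sup_left (mem_zpowers x)

end Cfsg.Agent.H9.FiveOrbits
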