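import Cfsg.Agent.H9.FiveOrbits.NCase
import Cfsg.Agent.H9.FiveOrbits.TwoPrimes
import Cfsg.Agent.H2.FPFSubgroup

/-!
The contradiction in the case in which every involution centralizer has a normal Sylow
`2`-subgroup.
-/

set_option autoImplicit false
set_option linter.unusedSectionVars false
set_option linter.style.haveILetI false

open scoped Pointwise

namespace Cfsg.Agent.H9.FiveOrbits

open Subgroup

universe u

variable {G : Type u} [Group G] [Finite G]

namespace Hard

variable {p r : ℕ} (h : Hard G p r) (S : Sylow 2 G)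
include h

theorem not_commute_r {x t : G} (hx : orderOf x = r) (ht : orderOf t = 2) : ¬ Commute t x := by
  intro hc
  rcases h.eq_one_or_r hx hc with e | e <;> rw [ht] at e
  · omega
  · exact h.hr2 e.symm

theorem two_mem_of_normalizer {w : G} (hw : orderOf w = 2)
    (hN : w ∈ normalizer ((S : Subgroup G) : Set G)) : w ∈ (S : Subgroup G) := by
  haveI : Fact (Nat.Prime 2) := ⟨Nat.prime_two⟩
  have hsup : IsPGroup 2 ↥(zpowers w ⊔ (S : Subgroup G)) :=
    (IsPGroup.of_card (n := 1) (show Nat.card (zpowers w) = 2 ^ 1 by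
      rw [Nat.card_zpowers, hw, pow_one])).to_sup_of_normal_right' S.isPGroup'
      (zpowers_le.2 hN)
  exact (S.3 hsup le_sup_right) ▸ le_sup_left (a := zpowers w) (mem_zpowers w)

/-- `r`-subgroups of the normalizer act without fixed points, so have order at most `r`. -/
theorem card_r_le {P : Subgroup G} (hP : IsPGroup r P)
    (hPN : P ≤ normalizer ((S : Subgroup G) : Set G)) : Nat.card P ≤ r := by
  haveI := Fact.mk h.hr
  haveI : IsMulCommutative (S : Subgroup G) :=
    ⟨⟨fun a b => Subtype.ext (h.commute_of_mem S.isPGroup' a.2 b.2).eq⟩⟩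
  obtain ⟨t, ht, ht2⟩ := h.exists_two_mem S
  have hSne : (S : Subgroup G) ≠ ⊥ := fun e => H65.ne_one_of_two ht2 (mem_bot.1 (e ▸ ht))
  by_cases hb : P = ⊥
  · rw [hb, card_bot]; exact h.hr.one_le
  have hord : ∀ a ∈ P, a ≠ 1 → orderOf a = r := by
    intro a ha ha1
    obtain ⟨i, hi⟩ := IsPGroup.iff_orderOf.1 hP ⟨a, ha⟩
    rw [orderOf_mk] at hi
    refine h.orderOf_eq_r (hi ▸ dvd_pow_self r fun e => ha1 ?_)
    rw [← orderOf_eq_one_iff, hi, e, pow_zero]
  haveI : Nontrivial P := (Subgroup.nontrivial_iff_ne_bot P).2 hb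
  haveI := hP.center_nontrivial
  obtain ⟨z, hz⟩ := exists_ne (1 : center P)
  set z' : G := ((z : P) : G) with hz'
  have hz1 : z' ≠ 1 := fun e => hz (Subtype.ext (Subtype.ext e))
  have hzP : z' ∈ P := (z : P).2
  suffices hle : P ≤ zpowers z' by
    refine (Nat.le_of_dvd Nat.card_pos (card_dvd_of_le hle)).trans ?_
    rw [Nat.card_zpowers, hord z' hzP hz1]
  intro a ha
  let A : Subgroup G := closure {z', a}
  have hAP : A ≤ P := (closure_le P).2 (by simp [Set.insert_subset_iff, hzP, ha])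
  haveI : IsMulCommutative A := by
    refine Subgroup.isMulCommutative_closure ?_
    have hc : a * z' = z' * a := congrArg Subtype.val (mem_center_iff.1 z.2 ⟨a, ha⟩)
    rintro x (rfl | rfl) y (rfl | rfl) <;> first | rfl | exact hc | exact hc.symm
  haveI : IsCyclic A := H2.isCyclic_of_fpf_subgroup A (S : Subgroup G) (hAP.trans hPN) hSne
    (fun x hx hx1 => by
      refine (Subgroup.eq_bot_iff_forall _).2 fun s hs => ?_
      by_contra hs1
      exact h.not_commute_r (hord x (hAP hx) hx1) (h.two_of_mem S.isPGroup' hs.1 hs1)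
        (mem_centralizer_singleton_iff.1 hs.2))
    (Or.inl inferInstance)
  obtain ⟨⟨g, hgA⟩, hg⟩ := IsCyclic.exists_generator (α := A)
  have hzA : z' ∈ A := subset_closure (by simp)
  have haA : a ∈ A := subset_closure (by simp)
  have hmem : ∀ x ∈ A, x ∈ zpowers g := fun x hx => by
    obtain ⟨i, hi⟩ := mem_zpowers_iff.1 (hg ⟨x, hx⟩)
    exact ⟨i, congrArg Subtype.val hi⟩
  have hg1 : g ≠ 1 := fun e => hz1 (by simpa [e] using hmem z' hzA)
  have heq : zpowers z' = zpowers g := eq_of_le_of_card_ge (zpowers_le.2 (hmem z' hzA))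
    (by rw [Nat.card_zpowers, Nat.card_zpowers, hord g (hAP hgA) hg1, hord z' hzP hz1])
  exact heq ▸ hmem a haA

variable (hno : ∀ t ∈ (S : Subgroup G), orderOf t = 2 → ¬ HasInv p (S : Subgroup G) t)
include hno

theorem inf_cent_eq {t : G} (ht : t ∈ (S : Subgroup G)) (ht2 : orderOf t = 2) :
    normalizer ((S : Subgroup G) : Set G) ⊓ centralizer ({t} : Set G) =
      centralizer ({t} : Set G) :=
  inf_eq_right.2 (h.cent_le_normalizer S ht ht2 (hno t ht ht2))

theorem num_two_mul : num G 2 * Nat.card (normalizer ((S : Subgroup G) : Set G)) =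
    Nat.card G * (Nat.card (S : Subgroup G) - 1) := by
  obtain ⟨t, ht, ht2⟩ := h.exists_two_mem S
  have h1 := h.incidence S ht ht2
  rw [h.inf_cent_eq S hno ht ht2] at h1
  refine Nat.eq_of_mul_eq_mul_right (m := Nat.card (centralizer ({t} : Set G))) Nat.card_pos ?_
  rw [← h1]
  ring

/-- An element of order `r` of the normalizer, inverted by an involution. -/
theorem exists_inverted :
    ∃ g u : G, orderOf g = r ∧ g ∈ normalizer ((S : Subgroup G) : Set G) ∧ orderOf u = 2 ∧
      u * g * u⁻¹ = g⁻¹ ∧ Nat.card (S : Subgroup G) - 1 ≤ r := by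
  classical
  haveI : Fact (Nat.Prime 2) := ⟨Nat.prime_two⟩
  haveI := Fact.mk h.hp
  haveI := Fact.mk h.hr
  haveI := Fintype.ofFinite G
  haveI := Fintype.ofFinite (Sylow 2 G)
  set n := Nat.card (S : Subgroup G) - 1 with hn
  set N := normalizer ((S : Subgroup G) : Set G) with hN
  have hn3 : 3 ≤ n := by
    obtain ⟨t, ht, ht2⟩ := h.exists_two_mem S
    have := h.three_le_orb S ht ht2
    have := h.orb_lt_card S ht ht2
    omega
  -- the number of involutions
  have h2 : num G 2 = Nat.card (Sylow 2 G) * n := by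
    refine Nat.eq_of_mul_eq_mul_right (m := Nat.card N) Nat.card_pos ?_
    rw [h.num_two_mul S hno, ← Subgroup.index_mul_card N]
    erw [← Sylow.card_eq_index_normalizer S]
    ring
  have hns : 1 < Nat.card (Sylow 2 G) := by
    rw [Finite.one_lt_card_iff_nontrivial]
    by_contra hnt
    rw [not_nontrivial_iff_subsingleton] at hnt
    haveI : (S : Subgroup G).Normal := Sylow.normal_of_subsingleton S
    haveI := h.simple
    obtain ⟨x, hx⟩ := h.exR
    rcases IsSimpleGroup.eq_bot_or_eq_top_of_normal (S : Subgroup G) inferInstance with e | e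
    · rw [e, card_bot] at hn; omega
    · have := h.sq_eq_one_of_mem S.isPGroup' (show x ∈ (S : Subgroup G) from e ▸ mem_top x)
      have h2 : orderOf x ∣ 2 := orderOf_dvd_of_pow_eq_one (by rw [pow_two]; exact this)
      rw [hx] at h2
      exact h.hr2 ((Nat.prime_dvd_prime_iff_eq h.hr Nat.prime_two).1 h2)
  let V : Finset G := Finset.univ.filter fun v => orderOf v = 2 ∧ v ∉ (S : Subgroup G)
  let T : Finset (Sylow 2 G) := Finset.univ.filter fun Q => Q ≠ S
  have hV : V.card + n = num G 2 := by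
    have e1 : n = (Finset.univ.filter fun v : G => orderOf v = 2 ∧ v ∈ (S : Subgroup G)).card := by
      rw [hn, ← h.card_inv_sylow S, ← Nat.card_congr (Equiv.subtypeSubtypeEquivSubtypeInter
        (fun t : G => orderOf t = 2) (fun t => t ∈ S)).symm, Nat.card_eq_fintype_card,
        Fintype.card_subtype]
      rfl
    rw [e1, num, Nat.card_eq_fintype_card, Fintype.card_subtype,
      ← Finset.card_union_of_disjoint (Finset.disjoint_filter.2 fun v _ a b => a.2 b.2)]
    congr 1
    ext v
    simp only [V, Finset.mem_union, Finset.mem_filter, Finset.mem_univ, true_and]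
    tauto
  have hT : T.card = Nat.card (Sylow 2 G) - 1 := by
    rw [Nat.card_eq_fintype_card, show T = Finset.univ.erase S from
      Finset.ext fun Q => by simp [T], Finset.card_erase_of_mem (Finset.mem_univ S),
      Finset.card_univ]
  have hmaps : ∀ v ∈ V, v • S ∈ T := fun v hv => by
    obtain ⟨-, hv2, hvS⟩ := Finset.mem_filter.1 hv
    exact Finset.mem_filter.2 ⟨Finset.mem_univ _, fun e =>
      hvS (h.two_mem_of_normalizer S hv2 (Sylow.smul_eq_iff_mem_normalizer.1 e))⟩
  obtain ⟨Q', hQ'T, hfib⟩ :=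
    Finset.exists_le_card_fiber_of_mul_le_card_of_maps_to hmaps (n := n)
      (Finset.card_pos.1 (by omega)) (by
        rw [hT, Nat.sub_mul, one_mul]
        omega)
  have hQ'S : Q' ≠ S := (Finset.mem_filter.1 hQ'T).2
  obtain ⟨u, hu⟩ := Finset.card_pos.1 (show 0 < (V.filter fun v => v • S = Q').card by omega)
  obtain ⟨huV, huQ⟩ := Finset.mem_filter.1 hu
  obtain ⟨-, hu2, huS⟩ := Finset.mem_filter.1 huV
  have huu := H65.mul_self_of_two hu2
  have hui := H65.inv_of_two hu2
  have huQ' : u • Q' = S := by rw [← huQ, smul_smul, huu, one_smul]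
  set D := N ⊓ normalizer ((Q' : Subgroup G) : Set G) with hD
  have huD : ∀ d ∈ D, u * d * u⁻¹ ∈ D := by
    intro d hd
    have d1 : d • S = S := Sylow.smul_eq_iff_mem_normalizer.2 hd.1
    have d2 : d • Q' = Q' := Sylow.smul_eq_iff_mem_normalizer.2 hd.2
    refine ⟨Sylow.smul_eq_iff_mem_normalizer.1 ?_, Sylow.smul_eq_iff_mem_normalizer.1 ?_⟩
    · rw [mul_smul, mul_smul, hui, huQ, d2, huQ']
    · rw [mul_smul, mul_smul, hui, huQ', d1, huQ]
  have hgD : ∀ v ∈ V.filter (fun v => v • S = Q'),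
      v * u ∈ D ∧ u * (v * u) * u⁻¹ = (v * u)⁻¹ := by
    intro v hv
    obtain ⟨hvV, hvQ⟩ := Finset.mem_filter.1 hv
    obtain ⟨-, hv2, -⟩ := Finset.mem_filter.1 hvV
    have hvQ' : v • Q' = S := by rw [← hvQ, smul_smul, H65.mul_self_of_two hv2, one_smul]
    refine ⟨⟨Sylow.smul_eq_iff_mem_normalizer.1 ?_, Sylow.smul_eq_iff_mem_normalizer.1 ?_⟩, ?_⟩
    · rw [mul_smul, huQ, hvQ']
    · rw [mul_smul, huQ', hvQ]
    · rw [mul_inv_rev, H65.inv_of_two hv2, hui, mul_assoc u, mul_assoc v, huu, mul_one]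
  -- `D` has odd order
  have hD2 : ∀ w ∈ D, orderOf w ≠ 2 := fun w hw hw2 => hQ'S
    (h.sylow_eq S hno (h.two_mem_of_normalizer Q' hw2 hw.2)
      (h.two_mem_of_normalizer S hw2 hw.1) hw2)
  have hDord : ∀ w ∈ D, orderOf w = 1 ∨ orderOf w = p ∨ orderOf w = r := by
    intro w hw
    rcases h.orders w with e | e | e | e | e
    · exact Or.inl e
    · exact absurd e (hD2 w hw)
    · exact Or.inr (Or.inl e)
    · exact Or.inr (Or.inr e)
    · exact absurd (h.split_twoP e).1 (hD2 _ (pow_mem hw p))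
  have hinv : ∀ w ∈ D, u * w * u⁻¹ = w⁻¹ → w = 1 ∨ orderOf w = r := by
    intro w hw hi
    rcases hDord w hw with e | e | e
    · exact Or.inl (orderOf_eq_one_iff.1 e)
    · exact absurd hi (h.not_inverted S hno hu2 e)
    · exact Or.inr e
  obtain ⟨g, hgDm, hgi, hg⟩ : ∃ g ∈ D, u * g * u⁻¹ = g⁻¹ ∧ orderOf g = r := by
    obtain ⟨v, hv, hvu⟩ := Finset.exists_mem_ne (show 1 < (V.filter fun v => v • S = Q').card by
      omega) u
    obtain ⟨h1, h2'⟩ := hgD v hv
    refine ⟨v * u, h1, h2', (hinv _ h1 h2').resolve_left fun e => hvu ?_⟩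
    rw [eq_inv_of_mul_eq_one_left e, hui]
  -- `O_p(D) = 1`
  have hO : pCore p D = ⊥ := by
    rw [Subgroup.eq_bot_iff_forall]
    rintro ⟨x, hxD⟩ hx
    by_contra hx1
    have hx1' : x ≠ 1 := fun e => hx1 (Subtype.ext e)
    let φ : D ≃* D :=
      { toFun := fun d => ⟨u * d * u⁻¹, huD d d.2⟩
        invFun := fun d => ⟨u * d * u⁻¹, huD d d.2⟩
        left_inv := fun d => Subtype.ext (show u * (u * (d : G) * u⁻¹) * u⁻¹ = d by
          rw [show u * (u * (d : G) * u⁻¹) * u⁻¹ = u * u * d * (u * u)⁻¹ by group, huu]; group)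
        right_inv := fun d => Subtype.ext (show u * (u * (d : G) * u⁻¹) * u⁻¹ = d by
          rw [show u * (u * (d : G) * u⁻¹) * u⁻¹ = u * u * d * (u * u)⁻¹ by group, huu]; group)
        map_mul' := fun a b => Subtype.ext (show u * ((a : G) * b) * u⁻¹ =
          u * a * u⁻¹ * (u * b * u⁻¹) by group) }
    have hfix : ∀ y : D, y ∈ pCore p D → u * (y : G) * u⁻¹ = y := by
      intro y hy
      have hy' : φ y ∈ pCore p D := by
        rw [← H1.map_pCore_equiv p φ]
        exact ⟨y, hy, rfl⟩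
      have hw := mul_mem hy' (inv_mem hy)
      obtain ⟨i, hi⟩ := IsPGroup.iff_orderOf.1 (H1.isPGroup_pCore p D) ⟨_, hw⟩
      rw [orderOf_mk, ← orderOf_coe] at hi
      by_contra hne
      have hne' : ((φ y * y⁻¹ : D) : G) ≠ 1 := fun e =>
        hne (mul_inv_eq_one.1 (e : u * (y : G) * u⁻¹ * (y : G)⁻¹ = 1))
      refine h.not_inverted S hno hu2 (h.orderOf_eq_p hi hne') ?_
      show u * (u * (y : G) * u⁻¹ * (y : G)⁻¹) * u⁻¹ = (u * (y : G) * u⁻¹ * (y : G)⁻¹)⁻¹
      rw [show u * (u * (y : G) * u⁻¹ * (y : G)⁻¹) * u⁻¹ =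
        (u * u) * y * (u * u)⁻¹ * (u * (y : G)⁻¹ * u⁻¹) by group, huu]
      group
    obtain ⟨i, hi⟩ := IsPGroup.iff_orderOf.1 (H1.isPGroup_pCore p D) ⟨_, hx⟩
    rw [orderOf_mk, orderOf_mk] at hi
    have hxp := h.orderOf_eq_p hi hx1'
    haveI := H1.pCore_normal' p D
    have hy := Subgroup.Normal.conj_mem (H := pCore p D) inferInstance _ hx ⟨g, hgDm⟩
    have e1 : u * (g * x * g⁻¹) * u⁻¹ = g * x * g⁻¹ := hfix _ hy
    have e2 : u * x * u⁻¹ = x := hfix _ hx
    have e3 : g⁻¹ * x * g = g * x * g⁻¹ := by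
      rw [← e1]
      calc g⁻¹ * x * g = g⁻¹ * x * (g⁻¹)⁻¹ := by rw [inv_inv]
        _ = (u * g * u⁻¹) * (u * x * u⁻¹) * (u * g * u⁻¹)⁻¹ := by rw [hgi, e2]
        _ = _ := by group
    have hc2 : Commute (g * g) x := by
      show g * g * x = x * (g * g)
      calc g * g * x = g * (g * x * g⁻¹) * g := by group
        _ = g * (g⁻¹ * x * g) * g := by rw [e3]
        _ = _ := by group
    have hg2 : orderOf (g * g) = r := by
      rw [← pow_two, orderOf_pow' g two_ne_zero, hg, (Nat.coprime_primes h.hr Nat.prime_two).2 h.hr2,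
        Nat.div_one]
    rcases h.eq_one_or_r hg2 hc2.symm with e | e <;> rw [hxp] at e
    · exact h.hp.ne_one e
    · exact h.hpr e
  have hDprimes : ∀ q : ℕ, q.Prime → q ∣ Nat.card D → q = p ∨ q = r := by
    intro q hq hd
    haveI := Fact.mk hq
    obtain ⟨w, hw⟩ := exists_prime_orderOf_dvd_card' q hd
    rw [← orderOf_coe] at hw
    rcases hDord _ w.2 with e | e | e <;> rw [hw] at e
    · exact absurd e hq.one_lt.ne'
    · exact Or.inl e
    · exact Or.inr e
  obtain ⟨R, -, hR, hRmem, -⟩ := exists_normal_of_prime h.hp h.hr hDprimes hO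
    (by rw [← hg, ← orderOf_mk g hgDm]; exact orderOf_dvd_natCard _)
    (fun P hP => by
      rw [← card_map_of_injective (f := D.subtype) D.subtype_injective]
      exact h.card_r_le S (hP.map _) ((map_subtype_le _).trans inf_le_left))
  refine ⟨g, u, hg, hgDm.1, hu2, hgi, ?_⟩
  refine hfib.trans ?_
  rw [← hR, Nat.card_eq_fintype_card, ← Fintype.card_coe]
  refine Fintype.card_le_of_injective (fun v => (⟨⟨v.1 * u, (hgD v.1 v.2).1⟩, ?_⟩ : R)) ?_
  · rcases hinv _ (hgD v.1 v.2).1 (hgD v.1 v.2).2 with e | e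
    · simp only [e]; exact one_mem R
    · exact hRmem _ (by rw [orderOf_mk]; exact e)
  · intro a b hab
    exact Subtype.ext (mul_right_cancel (congrArg (fun z : R => ((z : D) : G)) hab))

theorem n_case_false : False := by
  classical
  haveI : Fact (Nat.Prime 2) := ⟨Nat.prime_two⟩
  haveI := Fact.mk h.hp
  haveI := Fact.mk h.hr
  haveI := Fintype.ofFinite G
  obtain ⟨g, u, hg, hgN, hu2, hgi, hnr⟩ := h.exists_inverted S hno
  obtain ⟨t, ht, ht2⟩ := h.exists_two_mem S
  set N := normalizer ((S : Subgroup G) : Set G) with hN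
  set C := centralizer ({t} : Set G) with hC
  have hCN : C ≤ N := h.cent_le_normalizer S ht ht2 (hno t ht ht2)
  have hSC : (S : Subgroup G) ≤ C := h.sylow_le_centralizer S.isPGroup' ht
  have hgne : g ≠ 1 := fun e => h.hr.ne_one (by rw [← hg, e, orderOf_one])
  have hrC : ¬ r ∣ Nat.card C := fun hd => by
    obtain ⟨c, hc⟩ := exists_prime_orderOf_dvd_card' r hd
    exact h.not_commute_r (x := (c : G)) (by rw [orderOf_coe, hc]) ht2
      (mem_centralizer_singleton_iff.1 c.2).symm
  -- the orbit of an involution of `S`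
  have horb : ∀ s ∈ (S : Subgroup G), orderOf s = 2 →
      (orb (S : Subgroup G) s).ncard = r ∧ r * Nat.card C = Nat.card N := by
    intro s hs hs2
    have hsub : Set.range (fun i : Fin r => g ^ (i : ℕ) * s * (g ^ (i : ℕ))⁻¹) ⊆
        orb (S : Subgroup G) s := by
      rintro _ ⟨i, rfl⟩
      exact ⟨⟨g ^ (i : ℕ), pow_mem hgN _⟩, rfl⟩
    have hinj : Function.Injective (fun i : Fin r => g ^ (i : ℕ) * s * (g ^ (i : ℕ))⁻¹) := by
      intro i j e
      by_contra hij
      wlog hlt : (i : ℕ) < j generalizing i j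
      · exact this e.symm (Ne.symm hij)
          (lt_of_le_of_ne (Nat.le_of_not_lt hlt) fun e' => hij (Fin.ext e'.symm))
      set k := (j : ℕ) - i
      have hk : orderOf (g ^ k) = r := by
        rw [orderOf_pow' g (by omega), hg, (h.hr.coprime_iff_not_dvd.2 fun hd =>
          absurd (Nat.le_of_dvd (by omega) hd) (by omega)), Nat.div_one]
      refine h.not_commute_r hk hs2 ?_
      have e' : g ^ (i : ℕ) * s * (g ^ (i : ℕ))⁻¹ =
          g ^ (i : ℕ) * (g ^ k * s * (g ^ k)⁻¹) * (g ^ (i : ℕ))⁻¹ := by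
        refine e.trans ?_
        show g ^ (j : ℕ) * s * (g ^ (j : ℕ))⁻¹ = _
        rw [show (j : ℕ) = i + k by omega, pow_add]
        group
      exact (mul_inv_eq_iff_eq_mul.1 (mul_left_cancel (mul_right_cancel e')).symm).symm
    have h1 : r ≤ (orb (S : Subgroup G) s).ncard := by
      calc r = (Set.range (fun i : Fin r => g ^ (i : ℕ) * s * (g ^ (i : ℕ))⁻¹)).ncard := by
            rw [← Nat.card_coe_set_eq, Nat.card_range_of_injective hinj, Nat.card_fin]
        _ ≤ _ := Set.ncard_le_ncard hsub (Set.toFinite _)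
    have h2 := h.orb_lt_card S hs hs2
    have h3 : (orb (S : Subgroup G) s).ncard = r := by omega
    refine ⟨h3, ?_⟩
    rw [hN, ← orb_card (S : Subgroup G) s, h3, h.inf_cent_eq S hno hs hs2, h.card_cent_eq hs2 ht2]
  have hn3 := h.three_le_orb S ht ht2
  rw [(horb t ht ht2).1] at hn3
  have hS : Nat.card (S : Subgroup G) = r + 1 := by
    have := h.orb_lt_card S ht ht2
    rw [(horb t ht ht2).1] at this
    omega
  have hNC : r * Nat.card C = Nat.card N := (horb t ht ht2).2
  -- the quotient of `N` by `S`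
  let S₀ : Subgroup N := (S : Subgroup G).subgroupOf N
  haveI : S₀.Normal := normal_in_normalizer
  have hS₀ : Nat.card S₀ = Nat.card (S : Subgroup G) :=
    Nat.card_congr (subgroupOfEquivOfLe le_normalizer).toEquiv
  have hcardQ : Nat.card (N ⧸ S₀) * Nat.card (S : Subgroup G) = r * Nat.card C := by
    rw [hNC, ← hS₀, ← Subgroup.card_eq_card_quotient_mul_card_subgroup]
  have hodd : ¬ 2 ∣ Nat.card (N ⧸ S₀) :=
    (S.subtype (le_normalizer : (S : Subgroup G) ≤ N)).not_dvd_index
  have hQord : ∀ x : N ⧸ S₀, orderOf x = 1 ∨ orderOf x = p ∨ orderOf x = r := by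
    intro x
    obtain ⟨y, rfl⟩ := QuotientGroup.mk'_surjective S₀ x
    have hd : orderOf (QuotientGroup.mk' S₀ y) ∣ orderOf (y : G) := by
      rw [orderOf_coe]; exact orderOf_map_dvd _ y
    have h2 : ¬ 2 ∣ orderOf (QuotientGroup.mk' S₀ y) := fun d =>
      hodd (d.trans (orderOf_dvd_natCard _))
    rcases h.orders (y : G) with e | e | e | e | e <;> rw [e] at hd
    · exact Or.inl (Nat.dvd_one.1 hd)
    · rcases Nat.prime_two.eq_one_or_self_of_dvd _ hd with d | d
      · exact Or.inl d
      · exact absurd (d ▸ dvd_rfl) h2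
    · exact (h.hp.eq_one_or_self_of_dvd _ hd).imp_right Or.inl
    · exact (h.hr.eq_one_or_self_of_dvd _ hd).imp_right Or.inr
    · have hcop : Nat.Coprime (orderOf (QuotientGroup.mk' S₀ y)) 2 :=
        ((Nat.prime_two.coprime_iff_not_dvd).2 h2).symm
      exact (h.hp.eq_one_or_self_of_dvd _ (hcop.dvd_of_dvd_mul_left hd)).imp_right Or.inl
  have hQprimes : ∀ q : ℕ, q.Prime → q ∣ Nat.card (N ⧸ S₀) → q = p ∨ q = r := by
    intro q hq hd
    haveI := Fact.mk hq
    obtain ⟨w, hw⟩ := exists_prime_orderOf_dvd_card' q hd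
    rcases hQord w with e | e | e <;> rw [hw] at e
    · exact absurd e hq.one_lt.ne'
    · exact Or.inl e
    · exact Or.inr e
  have hcopS : Nat.Coprime (Nat.card (S : Subgroup G)) r := by
    obtain ⟨i, hi⟩ := IsPGroup.iff_card.1 S.isPGroup'
    rw [hi]
    exact Nat.Coprime.pow_left _ ((Nat.coprime_primes Nat.prime_two h.hr).2 (Ne.symm h.hr2))
  have hrQ : r ∣ Nat.card (N ⧸ S₀) := by
    refine hcopS.symm.dvd_of_dvd_mul_right ?_
    rw [hcardQ]
    exact dvd_mul_right r _
  have hOQ : pCore p (N ⧸ S₀) = ⊥ := by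
    haveI := H1.pCore_normal' p (N ⧸ S₀)
    set K := (pCore p (N ⧸ S₀)).comap (QuotientGroup.mk' S₀) with hK
    obtain ⟨i, hi⟩ := H1.card_pCore_eq_pow p (N ⧸ S₀)
    have hKcard : Nat.card K = Nat.card (S : Subgroup G) * p ^ i := by
      rw [hK, H1.card_comap_mk', hS₀, hi]
    have hcopK : Nat.Coprime (Nat.card K) r := by
      rw [hKcard]
      exact Nat.Coprime.mul_left hcopS (Nat.Coprime.pow_left _
        ((Nat.coprime_primes h.hp h.hr).2 h.hpr))
    have hKC : K.map N.subtype ≤ centralizer ((S : Subgroup G) : Set G) := by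
      rintro _ ⟨k, hk, rfl⟩
      refine mem_centralizer_iff.2 fun s hs => ?_
      by_cases hs1 : s = 1
      · simp [hs1]
      have hs2 := h.two_of_mem S.isPGroup' hs hs1
      have hsN : centralizer ({s} : Set G) ≤ N :=
        h.cent_le_normalizer S hs hs2 (hno s hs hs2)
      set X := (centralizer ({s} : Set G)).subgroupOf N
      have hX : Nat.card X = Nat.card C := by
        rw [Nat.card_congr (subgroupOfEquivOfLe hsN).toEquiv]
        exact h.card_cent_eq hs2 ht2
      haveI : K.Normal := Subgroup.Normal.comap inferInstance _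
      have h1 : Nat.card ↥(X ⊔ K) ∣ Nat.card C * Nat.card K := hX ▸ H1.card_sup_dvd_mul X K
      have h2 : Nat.card ↥(X ⊔ K) ∣ Nat.card C * r := by
        rw [mul_comm, hNC]; exact card_subgroup_dvd_card _
      have h3 : Nat.card ↥(X ⊔ K) ∣ Nat.card C := by
        have := Nat.dvd_gcd h1 h2
        rwa [Nat.gcd_mul_left, hcopK, mul_one] at this
      have hXK := eq_of_le_of_card_ge (le_sup_left : X ≤ X ⊔ K)
        (hX.symm ▸ Nat.le_of_dvd Nat.card_pos h3)
      have hkX : k ∈ X := hXK ▸ mem_sup_right hk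
      exact (mem_centralizer_singleton_iff.1 (mem_subgroupOf.1 hkX)).symm
    rw [h.centralizer_sylow S hno] at hKC
    refine (Subgroup.eq_bot_iff_forall _).2 fun x hx => ?_
    obtain ⟨y, rfl⟩ := QuotientGroup.mk'_surjective S₀ x
    exact (QuotientGroup.eq_one_iff y).2 (mem_subgroupOf.2 (hKC ⟨y, hx, rfl⟩))
  have hQsub : ∀ P : Subgroup (N ⧸ S₀), IsPGroup r P → Nat.card P ≤ r := by
    intro P hP
    obtain ⟨i, hi⟩ := IsPGroup.iff_card.1 hP
    have hd : r ^ i ∣ Nat.card N := by
      rw [Subgroup.card_eq_card_quotient_mul_card_subgroup S₀, ← hi]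
      exact dvd_mul_of_dvd_left (card_subgroup_dvd_card P) _
    obtain ⟨P', hP'⟩ := Sylow.exists_subgroup_card_pow_prime r hd
    rw [hi, ← hP', ← card_map_of_injective (f := N.subtype) N.subtype_injective]
    exact h.card_r_le S ((IsPGroup.of_card hP').map _) (map_subtype_le _)
  obtain ⟨R, hRn, hR, hRmem, hRC⟩ :=
    exists_normal_of_prime h.hp h.hr hQprimes hOQ hrQ hQsub
  -- the index of `R` is `p`
  haveI := hRn
  haveI : IsCyclic R := isCyclic_of_prime_card hR
  have hker : (MulAut.conjNormal : N ⧸ S₀ →* MulAut R).ker = R := by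
    ext x
    constructor
    · intro hx
      refine hRC (mem_centralizer_iff.2 fun a ha => ?_)
      have := congrArg Subtype.val (DFunLike.congr_fun (MonoidHom.mem_ker.1 hx) ⟨a, ha⟩)
      rw [MulAut.conjNormal_apply] at this
      exact (mul_inv_eq_iff_eq_mul.1 this).symm
    · intro hx
      refine MonoidHom.mem_ker.2 (MulEquiv.ext fun a => Subtype.ext ?_)
      rw [MulAut.conjNormal_apply]
      have hc : (⟨x, hx⟩ : R) * a = a * ⟨x, hx⟩ := IsMulCommutative.is_comm.comm _ _
      have hc' : x * (a : N ⧸ S₀) = (a : N ⧸ S₀) * x := congrArg Subtype.val hc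
      show x * (a : N ⧸ S₀) * x⁻¹ = a
      rw [hc', mul_inv_cancel_right]
  set φ : N ⧸ S₀ →* MulAut R := MulAut.conjNormal with hφ
  haveI : IsCyclic (MulAut R) := by
    haveI : Fact (Nat.Prime (Nat.card R)) := ⟨hR.symm ▸ h.hr⟩
    exact (IsCyclic.mulAutMulEquiv R).isCyclic.2 inferInstance
  obtain ⟨⟨_, x, rfl⟩, hx⟩ := IsCyclic.exists_generator (α := φ.range)
  set e := Nat.card φ.range with he
  have hre : r * e = Nat.card (N ⧸ S₀) := by
    rw [← φ.ker.card_mul_index, Subgroup.index_ker, hker, hR, he]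
  have hex : e ∣ orderOf x := by
    rw [he, ← orderOf_eq_card_of_forall_mem_zpowers hx, ← orderOf_coe]
    exact orderOf_map_dvd φ x
  have hCe : Nat.card C = e * Nat.card (S : Subgroup G) := by
    refine Nat.eq_of_mul_eq_mul_left h.hr.pos ?_
    rw [← hcardQ, ← hre]
    ring
  have hpC : p ∣ Nat.card C := by
    obtain ⟨⟨y, hy, hyc⟩⟩ : Nonempty {y : G // orderOf y = p ∧ Commute t y} :=
      (Nat.card_pos_iff.1 (h.pIn_pos ht2)).1
    rw [← hy, ← orderOf_mk y (mem_centralizer_singleton_iff.2 hyc.symm.eq : y ∈ C)]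
    exact orderOf_dvd_natCard _
  have hcopp : Nat.Coprime p (Nat.card (S : Subgroup G)) := by
    obtain ⟨i, hi⟩ := IsPGroup.iff_card.1 S.isPGroup'
    rw [hi]
    exact Nat.Coprime.pow_right _ ((Nat.coprime_primes h.hp Nat.prime_two).2 h.hp2)
  have hep : e = p := by
    have hpe : p ∣ e := hcopp.dvd_of_dvd_mul_right (hCe ▸ hpC)
    have her : ¬ r ∣ e := fun d => hrC (hCe ▸ dvd_mul_of_dvd_left d _)
    rcases hQord x with o | o | o <;> rw [o] at hex
    · rw [Nat.dvd_one.1 hex] at hpe
      exact absurd (Nat.dvd_one.1 hpe) h.hp.ne_one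
    · exact Nat.dvd_antisymm hex hpe
    · rcases h.hr.eq_one_or_self_of_dvd _ hex with d | d
      · rw [d] at hpe
        exact absurd (Nat.dvd_one.1 hpe) h.hp.ne_one
      · exact absurd (d ▸ dvd_rfl) her
  rw [hep] at hCe
  -- `p` divides the order of the normalizer of `g`
  let g₀ : N := ⟨g, hgN⟩
  have hmk : orderOf (QuotientGroup.mk' S₀ g₀) = r := by
    have hd : orderOf (QuotientGroup.mk' S₀ g₀) ∣ r := by
      rw [← hg, ← orderOf_mk g hgN]; exact orderOf_map_dvd _ _
    refine (h.hr.eq_one_or_self_of_dvd _ hd).resolve_left fun e1 => ?_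
    have h1 := h.sq_eq_one_of_mem S.isPGroup'
      (mem_subgroupOf.1 ((QuotientGroup.eq_one_iff g₀).1 (orderOf_eq_one_iff.1 e1)))
    have h2' : orderOf g ∣ 2 := orderOf_dvd_of_pow_eq_one (by rw [pow_two]; exact h1)
    rw [hg] at h2'
    exact h.hr2 ((Nat.prime_dvd_prime_iff_eq h.hr Nat.prime_two).1 h2')
  set L := R.comap (QuotientGroup.mk' S₀) with hL
  haveI : L.Normal := Subgroup.Normal.comap hRn _
  have hgL : g₀ ∈ L := mem_comap.2 (hRmem _ hmk)
  have hLcard : Nat.card L = Nat.card (S : Subgroup G) * r := by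
    rw [hL, H1.card_comap_mk', hS₀, hR]
  have hLfac : (Nat.card L).factorization r = 1 := by
    rw [hLcard, Nat.factorization_mul Nat.card_pos.ne' h.hr.ne_zero, Finsupp.add_apply,
      h.hr.factorization_self, Nat.factorization_eq_zero_of_not_dvd
        ((h.hr.coprime_iff_not_dvd).1 hcopS.symm)]
  let P : Sylow r L := Sylow.ofCard (zpowers (⟨g₀, hgL⟩ : L))
    (by rw [Nat.card_zpowers, hLfac, pow_one, orderOf_mk, show orderOf g₀ = r from
      (orderOf_mk g hgN).trans hg])
  have hPmap : ((P : Subgroup L).map L.subtype).map N.subtype = zpowers g := by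
    rw [Sylow.coe_ofCard, MonoidHom.map_zpowers, MonoidHom.map_zpowers]
    rfl
  set W := normalizer ((zpowers g : Subgroup G) : Set G) with hW
  have hFr := Sylow.normalizer_sup_eq_top P
  have hpW : p ∣ Nat.card W := by
    set NP := normalizer (((P : Subgroup L).map L.subtype : Subgroup N) : Set N) with hNP
    have h1 : Nat.card N ∣ Nat.card NP * Nat.card L := by
      have := H1.card_sup_dvd_mul NP L
      rwa [hFr, card_top] at this
    have h2 : p ∣ Nat.card NP := by
      rw [← hNC, hCe, hLcard] at h1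
      have h4 : r * (p * Nat.card (S : Subgroup G)) =
          p * (Nat.card (S : Subgroup G) * r) := by ring
      rw [h4] at h1
      exact Nat.dvd_of_mul_dvd_mul_right (Nat.mul_pos Nat.card_pos h.hr.pos) h1
    refine h2.trans ?_
    rw [← card_map_of_injective (f := N.subtype) N.subtype_injective]
    refine card_dvd_of_le ?_
    rw [hW, ← hPmap]
    exact le_normalizer_map _
  -- so elements of order `r` are few
  obtain ⟨R₀, x₀, -, hx₀, hC₀⟩ := h.exists_r_central
  have hCg := h.card_centralizer_r hx₀ hC₀ hg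
  let Rg : Sylow r G := Sylow.ofCard (centralizer ({g} : Set G))
    (by rw [hCg, Sylow.card_eq_multiplicity R₀])
  have hWg : W ≤ normalizer ((Rg : Subgroup G) : Set G) := by
    rw [Sylow.coe_ofCard, ← centralizer_closure ({g} : Set G), ← zpowers_eq_closure]
    intro w hw
    have key : ∀ c : G, c ∈ centralizer ((zpowers g : Subgroup G) : Set G) → ∀ z ∈ W,
        z * c * z⁻¹ ∈ centralizer ((zpowers g : Subgroup G) : Set G) := by
      intro c hc z hz
      refine mem_centralizer_iff.2 fun a ha => ?_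
      have hza : z⁻¹ * a * z ∈ zpowers g := by
        have := (mem_normalizer_iff.1 (inv_mem hz) a).1 ha
        simpa using this
      calc a * (z * c * z⁻¹) = z * ((z⁻¹ * a * z) * c) * z⁻¹ := by group
        _ = z * (c * (z⁻¹ * a * z)) * z⁻¹ := by rw [mem_centralizer_iff.1 hc _ hza]
        _ = _ := by group
    refine mem_normalizer_iff.2 fun c => ⟨fun hc => key c hc w hw, fun hc => ?_⟩
    have := key _ hc w⁻¹ (inv_mem hw)
    rwa [show w⁻¹ * (w * c * w⁻¹) * w⁻¹⁻¹ = c by group] at this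
  have huW : u ∈ W := by
    rw [hW, ← zpowers_inv, ← hgi, mem_normalizer_iff_map_conj_eq, MonoidHom.map_zpowers]
    show zpowers ((MulAut.conj u) (u * g * u⁻¹)) = _
    rw [MulAut.conj_apply, show u * (u * g * u⁻¹) * u⁻¹ = u * u * g * (u * u)⁻¹ by group,
      H65.mul_self_of_two hu2, hgi, zpowers_inv]
    group
  have h2W : 2 ∣ Nat.card W := by
    rw [← hu2, ← orderOf_mk u huW]; exact orderOf_dvd_natCard _
  have hm : 2 * p * Nat.card (center ↥(Rg : Subgroup G)) ≤
      Nat.card (normalizer ((Rg : Subgroup G) : Set G)) := by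
    refine le_trans (Nat.mul_le_mul_left _ (card_le_card_group _)) (Nat.le_of_dvd Nat.card_pos ?_)
    obtain ⟨i, hi⟩ := IsPGroup.iff_card.1 Rg.isPGroup'
    refine Nat.Coprime.mul_dvd_of_dvd_of_dvd ?_ (Nat.Coprime.mul_dvd_of_dvd_of_dvd h.coprime_two
      (h2W.trans (card_dvd_of_le hWg)) (hpW.trans (card_dvd_of_le hWg))) (card_dvd_of_le le_normalizer)
    rw [hi]
    refine Nat.Coprime.pow_right _ (Nat.Coprime.mul_left ?_ ?_)
    · exact (Nat.coprime_primes Nat.prime_two h.hr).2 (Ne.symm h.hr2)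
    · exact (Nat.coprime_primes h.hp h.hr).2 h.hpr
  have hNr := h.mul_num_r_lt (R := Rg) hg (Sylow.coe_ofCard _ _).symm hm
  -- the elements of order `p` in `C`
  have hpIn : 2 * pIn p t ≤ (p - 1) * Nat.card (S : Subgroup G) := by
    haveI := Fintype.ofFinite (Sylow p C)
    have hfac : (Nat.card C).factorization p = 1 := by
      rw [hCe, Nat.factorization_mul h.hp.ne_zero Nat.card_pos.ne', Finsupp.add_apply,
        h.hp.factorization_self, Nat.factorization_eq_zero_of_not_dvd
          ((h.hp.coprime_iff_not_dvd).1 hcopp)]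
    have hPc : ∀ P : Sylow p C, Nat.card (P : Subgroup C) = p := fun P => by
      rw [Sylow.card_eq_multiplicity, hfac, pow_one]
    have hq : ∀ y : {y : G // orderOf y = p ∧ Commute t y}, ∃ P : Sylow p C,
        (⟨y.1, mem_centralizer_singleton_iff.2 y.2.2.symm.eq⟩ : C) ∈ P := fun y => by
      refine ⟨Sylow.ofCard (zpowers (⟨y.1, mem_centralizer_singleton_iff.2 y.2.2.symm.eq⟩ : C))
        (by rw [Nat.card_zpowers, orderOf_mk, y.2.1, hfac, pow_one]), ?_⟩
      exact mem_zpowers _
    choose F hF using hq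
    let f : {y : G // orderOf y = p ∧ Commute t y} →
        Σ P : Sylow p C, {a : (P : Subgroup C) // a ≠ 1} := fun y =>
      ⟨F y, ⟨_, hF y⟩, fun e => h.hp.ne_one (by
        rw [← y.2.1, show (y : G) = 1 from congrArg (fun a : ↥(F y : Subgroup C) => ((a : C) : G)) e,
          orderOf_one])⟩
    have hinj : Function.Injective f := fun a b hab => Subtype.ext <| by
      have := congrArg (fun s : Σ P : Sylow p C, {a : (P : Subgroup C) // a ≠ 1} =>
        (((s.2.1 : ↥(s.1 : Subgroup C)) : C) : G)) hab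
      exact this
    have h1 : pIn p t ≤ Nat.card (Sylow p C) * (p - 1) := by
      refine (Nat.card_le_card_of_injective f hinj).trans (le_of_eq ?_)
      rw [Nat.card_sigma]
      refine (Finset.sum_congr rfl (g := fun _ => p - 1) fun P _ => ?_).trans (by simp)
      haveI := Fintype.ofFinite (P : Subgroup C)
      rw [Nat.card_eq_fintype_card, Fintype.card_subtype_compl, Fintype.card_subtype_eq,
        ← Nat.card_eq_fintype_card, hPc P]
    obtain ⟨P₀⟩ : Nonempty (Sylow p C) := inferInstance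
    have h2 : 2 * Nat.card (Sylow p C) ≤ Nat.card (S : Subgroup G) := by
      set N₀ := normalizer ((P₀ : Subgroup C) : Set C) with hN₀
      have htN₀ : (⟨t, hSC ht⟩ : C) ∈ N₀ := centralizer_le_normalizer _ (mem_centralizer_iff.2
        fun a _ => Subtype.ext (mem_centralizer_singleton_iff.1 a.2))
      have hd : 2 * p ≤ Nat.card N₀ := Nat.le_of_dvd Nat.card_pos
        (Nat.Coprime.mul_dvd_of_dvd_of_dvd h.coprime_two
          (by rw [← ht2, ← orderOf_mk t (hSC ht), ← orderOf_mk _ htN₀]; exact orderOf_dvd_natCard _)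
          (hPc P₀ ▸ card_dvd_of_le le_normalizer))
      have e : Nat.card (Sylow p C) * Nat.card N₀ = Nat.card C := by
        rw [Sylow.card_eq_index_normalizer P₀, hN₀]
        exact Subgroup.index_mul_card _
      refine Nat.le_of_mul_le_mul_left (show p * (2 * Nat.card (Sylow p C)) ≤ p * _ from ?_) h.hp.pos
      calc p * (2 * Nat.card (Sylow p C)) = Nat.card (Sylow p C) * (2 * p) := by ring
        _ ≤ Nat.card (Sylow p C) * Nat.card N₀ := Nat.mul_le_mul_left _ hd
        _ = p * Nat.card (S : Subgroup G) := by rw [e, hCe]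
    calc 2 * pIn p t ≤ 2 * (Nat.card (Sylow p C) * (p - 1)) := Nat.mul_le_mul_left _ h1
      _ = (p - 1) * (2 * Nat.card (Sylow p C)) := by ring
      _ ≤ _ := Nat.mul_le_mul_left _ h2
  obtain ⟨y, hy⟩ := h.exists_p
  have hNp : num G p ≤ num G (2 * p) := by
    rw [h.num_twoP_eq_p hy]; exact Nat.le_mul_of_pos_right _ (h.twoIn_pos hy)
  have hG : num G 2 * Nat.card C = Nat.card G := by
    refine Nat.eq_of_mul_eq_mul_left h.hr.pos ?_
    calc r * (num G 2 * Nat.card C) = num G 2 * (r * Nat.card C) := by ring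
      _ = Nat.card G * r := by rw [hNC, h.num_two_mul S hno, hS, Nat.add_sub_cancel]
      _ = _ := mul_comm _ _
  have hN2 := h.num_pos (n := 2) ⟨t, ht2⟩
  have e1 := h.card_eq
  have e2 := h.num_twoP_eq_two ht2
  rw [hCe] at hG
  have hp1 : 1 ≤ p := h.hp.one_le
  have e3 : Nat.card G ≤ 1 + num G 2 + num G r +
      (p - 1) * Nat.card (S : Subgroup G) * num G 2 := by
    have h1 := Nat.mul_le_mul_right (num G 2) hpIn
    nlinarith [h1, hNp, e1, e2]
  have e4 : 2 * num G r < num G 2 * Nat.card (S : Subgroup G) := by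
    refine Nat.lt_of_mul_lt_mul_left (a := p) ?_
    calc p * (2 * num G r) = 2 * p * num G r := by ring
      _ < Nat.card G := hNr
      _ = p * (num G 2 * Nat.card (S : Subgroup G)) := by rw [← hG]; ring
  have e5 : (p - 1) * Nat.card (S : Subgroup G) * num G 2 +
      Nat.card (S : Subgroup G) * num G 2 = Nat.card G := by
    rw [← hG, ← add_mul, ← Nat.succ_mul, show (p - 1).succ = p by omega]
    ring
  have hS4 : 4 ≤ Nat.card (S : Subgroup G) := by omega
  have hS4' := Nat.mul_le_mul_right (num G 2) hS4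
  have := mul_comm (num G 2) (Nat.card (S : Subgroup G))
  omega

end Hard

end Cfsg.Agent.H9.FiveOrbits
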