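import Cfsg.Agent.H9.FiveOrbits.Sylow

/-!
The orbits of the normalizer of a Sylow `2`-subgroup on its involutions.
-/

set_option autoImplicit false
set_option linter.unusedSectionVars false
set_option linter.style.haveILetI false

open scoped Pointwise

namespace Cfsg.Agent.H9.FiveOrbits

open Subgroup

universe u

variable {G : Type u} [Group G] [Finite G]

/-- The orbit of `t` under conjugation by the normalizer of `S`. -/
def orb (S : Subgroup G) (t : G) : Set G :=
  Set.range fun g : normalizer (S : Set G) => (g : G) * t * (g : G)⁻¹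

theorem orb_card (S : Subgroup G) (t : G) :
    (orb S t).ncard * Nat.card ↥(normalizer (S : Set G) ⊓ centralizer ({t} : Set G)) =
      Nat.card (normalizer (S : Set G)) := by
  letI : MulAction (normalizer (S : Set G)) G :=
    MulAction.compHom G ((MulAut.conj : G →* MulAut G).comp (normalizer (S : Set G)).subtype)
  have horb : MulAction.orbit (normalizer (S : Set G)) t = orb S t := rfl
  have hst : MulAction.stabilizer (normalizer (S : Set G)) t =
      (normalizer (S : Set G) ⊓ centralizer ({t} : Set G)).subgroupOf (normalizer (S : Set G)) := by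
    ext g
    rw [mem_subgroupOf, mem_inf, MulAction.mem_stabilizer_iff, mem_centralizer_singleton_iff]
    show (g : G) * t * (g : G)⁻¹ = t ↔ _
    rw [mul_inv_eq_iff_eq_mul]
    exact ⟨fun e => ⟨g.2, e⟩, fun e => e.2⟩
  have h1 := MulAction.index_stabilizer (normalizer (S : Set G)) t
  have h2 := (MulAction.stabilizer (normalizer (S : Set G)) t).card_mul_index
  rw [h1, horb, hst, Nat.card_congr (subgroupOfEquivOfLe inf_le_left).toEquiv] at h2
  rw [mul_comm]
  exact h2

theorem orb_subset {S : Subgroup G} {t : G} (ht : t ∈ S) : orb S t ⊆ S := by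
  rintro _ ⟨g, rfl⟩
  exact (mem_normalizer_iff.1 g.2 t).1 ht

theorem orb_ne_one {S : Subgroup G} {t : G} (ht : t ≠ 1) : orb S t ⊆ {x | x ≠ 1} := by
  rintro _ ⟨g, rfl⟩
  simpa [mul_inv_eq_one] using ht

namespace Hard

variable {p r : ℕ} (h : Hard G p r)
include h

/-- Some odd power of an element of the normalizer lies in `S`. -/
theorem exists_odd_pow_mem (S : Sylow 2 G) {g : G}
    (hg : g ∈ normalizer ((S : Subgroup G) : Set G)) :
    ∃ j : ℕ, Odd j ∧ g ^ j ∈ (S : Subgroup G) := by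
  haveI : Fact (Nat.Prime 2) := ⟨Nat.prime_two⟩
  set n := orderOf g
  have hn : n ≠ 0 := (orderOf_pos g).ne'
  refine ⟨n / 2 ^ n.factorization 2, Nat.not_even_iff_odd.1 fun he =>
    Nat.not_dvd_ordCompl Nat.prime_two hn (even_iff_two_dvd.1 he), ?_⟩
  set j := n / 2 ^ n.factorization 2
  have hp2 : IsPGroup 2 (zpowers (g ^ j)) := by
    refine IsPGroup.of_card (n := n.factorization 2) ?_
    rw [Nat.card_zpowers, orderOf_pow' g (Nat.div_pos (Nat.le_of_dvd (Nat.pos_of_ne_zero hn)
      (Nat.ordProj_dvd n 2)) (by positivity)).ne', Nat.gcd_eq_right (Nat.ordCompl_dvd n 2)]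
    exact Nat.div_div_self (Nat.ordProj_dvd n 2) hn
  have hsup : IsPGroup 2 ↥(zpowers (g ^ j) ⊔ (S : Subgroup G)) :=
    hp2.to_sup_of_normal_right' S.isPGroup' ((zpowers_le.2 (pow_mem hg j)))
  exact (S.3 hsup le_sup_right) ▸ le_sup_left (a := zpowers (g ^ j)) (mem_zpowers _)

/-- An element fixing a point of a three element orbit fixes the orbit pointwise. -/
theorem fix_orb (S : Sylow 2 G) {t g : G} (ht : t ∈ (S : Subgroup G))
    (h3 : (orb (S : Subgroup G) t).ncard = 3)
    (hg : g ∈ normalizer ((S : Subgroup G) : Set G)) {a u : G} (ha : a ∈ orb (S : Subgroup G) t)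
    (hga : g * a * g⁻¹ = a) (hu : u ∈ orb (S : Subgroup G) t) : g * u * g⁻¹ = u := by
  obtain ⟨j, hj, hjS⟩ := h.exists_odd_pow_mem S hg
  by_contra hne
  have hmap : ∀ v ∈ orb (S : Subgroup G) t, g * v * g⁻¹ ∈ orb (S : Subgroup G) t := by
    rintro _ ⟨c, rfl⟩
    exact ⟨⟨g * c, mul_mem hg c.2⟩, by group⟩
  have inj : ∀ {v w : G}, g * v * g⁻¹ = g * w * g⁻¹ → v = w := fun e =>
    mul_left_cancel (mul_right_cancel e)
  have h2 : g * (g * u * g⁻¹) * g⁻¹ = u := by
    have m1 := hmap u hu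
    have m2 := hmap _ m1
    have n1 : g * u * g⁻¹ ≠ a := fun e' => hne (by rw [inj (e'.trans hga.symm), hga])
    have n2 : g * (g * u * g⁻¹) * g⁻¹ ≠ a := fun e' => n1 (inj (e'.trans hga.symm))
    have n3 : g * (g * u * g⁻¹) * g⁻¹ ≠ g * u * g⁻¹ := fun e' => hne (inj e')
    have n4 : u ≠ a := fun e' => hne (by rw [e', hga])
    have hsub : ({a, u, g * u * g⁻¹} : Set G) = orb (S : Subgroup G) t := by
      refine Set.eq_of_subset_of_ncard_le (by simp [Set.insert_subset_iff, ha, hu, m1]) ?_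
        (Set.toFinite _)
      rw [h3, Set.ncard_eq_three.2 ⟨a, u, g * u * g⁻¹, n4.symm, n1.symm, fun e' => hne e'.symm,
        rfl⟩]
    rw [← hsub] at m2
    rcases m2 with e' | e' | e'
    · exact absurd e' n2
    · exact e'
    · exact absurd e' n3
  have hpow : ∀ i : ℕ, g ^ (2 * i) * u * (g ^ (2 * i))⁻¹ = u := by
    intro i
    induction i with
    | zero => simp
    | succ i ih =>
      rw [show 2 * (i + 1) = 2 + 2 * i by ring, pow_add, pow_two]
      calc g * g * g ^ (2 * i) * u * (g * g * g ^ (2 * i))⁻¹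
          = g * (g * (g ^ (2 * i) * u * (g ^ (2 * i))⁻¹) * g⁻¹) * g⁻¹ := by group
        _ = u := by rw [ih, h2]
  obtain ⟨i, rfl⟩ := hj
  have hc : g ^ (2 * i + 1) * u * (g ^ (2 * i + 1))⁻¹ = u := by
    rw [(h.commute_of_mem S.isPGroup' hjS (orb_subset ht hu)).eq, mul_inv_cancel_right]
  apply hne
  rw [pow_succ'] at hc
  calc g * u * g⁻¹ = g * (g ^ (2 * i) * u * (g ^ (2 * i))⁻¹) * g⁻¹ := by rw [hpow i]
    _ = g * g ^ (2 * i) * u * (g * g ^ (2 * i))⁻¹ := by group
    _ = u := hc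

theorem card_cent_eq {s t : G} (hs : orderOf s = 2) (ht : orderOf t = 2) :
    Nat.card (centralizer ({s} : Set G)) = Nat.card (centralizer ({t} : Set G)) := by
  obtain ⟨α, hα⟩ := h.aut t s (by rw [hs, ht])
  rw [← hα, card_centralizer_map]

theorem nu_eq (S : Sylow 2 G) {s t : G} (hs : s ∈ (S : Subgroup G)) (ht : t ∈ (S : Subgroup G))
    (hs2 : orderOf s = 2) (ht2 : orderOf t = 2) :
    Nat.card ↥(normalizer ((S : Subgroup G) : Set G) ⊓ centralizer ({s} : Set G)) =
      Nat.card ↥(normalizer ((S : Subgroup G) : Set G) ⊓ centralizer ({t} : Set G)) := by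
  have h1 := h.card_sylows_mul S hs
  have h2 := h.card_sylows_mul S ht
  rw [h.card_sylows_eq hs2 ht2, h.card_cent_eq hs2 ht2, ← h2] at h1
  haveI : Nonempty {Q : Sylow 2 G // t ∈ Q} := ⟨⟨S, ht⟩⟩
  exact Nat.eq_of_mul_eq_mul_left Nat.card_pos h1

theorem orb_ncard_eq (S : Sylow 2 G) {s t : G} (hs : s ∈ (S : Subgroup G))
    (ht : t ∈ (S : Subgroup G)) (hs2 : orderOf s = 2) (ht2 : orderOf t = 2) :
    (orb (S : Subgroup G) s).ncard = (orb (S : Subgroup G) t).ncard := by
  have h1 := orb_card (S : Subgroup G) s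
  have h2 := orb_card (S : Subgroup G) t
  rw [h.nu_eq S hs ht hs2 ht2, ← h2] at h1
  exact Nat.eq_of_mul_eq_mul_right Nat.card_pos h1

theorem two_dvd_card : 2 ∣ Nat.card G := by
  obtain ⟨t, ht⟩ := h.exists_two
  exact ht ▸ orderOf_dvd_natCard t

theorem orb_odd (S : Sylow 2 G) {t : G} (ht : t ∈ (S : Subgroup G)) :
    ¬ 2 ∣ (orb (S : Subgroup G) t).ncard := by
  haveI : Fact (Nat.Prime 2) := ⟨Nat.prime_two⟩
  intro hd
  set N := normalizer ((S : Subgroup G) : Set G)
  set X := N ⊓ centralizer ({t} : Set G)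
  have hSX : (S : Subgroup G) ≤ X := le_inf le_normalizer (h.sylow_le_centralizer S.isPGroup' ht)
  obtain ⟨c, hc⟩ : Nat.card (S : Subgroup G) ∣ Nat.card X := card_dvd_of_le hSX
  have hN : 2 * Nat.card (S : Subgroup G) ∣ Nat.card G := by
    refine dvd_trans ?_ (Subgroup.card_subgroup_dvd_card N)
    rw [← orb_card (S : Subgroup G) t, show Nat.card _ = _ from hc]
    exact mul_dvd_mul hd (dvd_mul_right _ _)
  exact S.not_dvd_index (by
    rw [← (S : Subgroup G).card_mul_index, mul_comm 2] at hN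
    exact Nat.dvd_of_mul_dvd_mul_left Nat.card_pos hN)

theorem three_le_orb (S : Sylow 2 G) {t : G} (ht : t ∈ (S : Subgroup G)) (ht2 : orderOf t = 2) :
    3 ≤ (orb (S : Subgroup G) t).ncard := by
  haveI : Fact (Nat.Prime 2) := ⟨Nat.prime_two⟩
  have hodd := h.orb_odd S ht
  have hne : (orb (S : Subgroup G) t).ncard ≠ 1 := by
    intro h1
    refine h.not_normalizer_le_centralizer S h.two_dvd_card fun g hg =>
      mem_centralizer_iff.2 fun s hs => ?_
    by_cases hs1 : s = 1
    · simp [hs1]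
    have hs2 := h.two_of_mem S.isPGroup' hs hs1
    obtain ⟨a, ha⟩ := Set.ncard_eq_one.1 ((h.orb_ncard_eq S hs ht hs2 ht2).trans h1)
    have e1 : s ∈ orb (S : Subgroup G) s := ⟨1, by simp⟩
    have e2 : g * s * g⁻¹ ∈ orb (S : Subgroup G) s := ⟨⟨g, hg⟩, rfl⟩
    rw [ha, Set.mem_singleton_iff] at e1 e2
    exact (mul_inv_eq_iff_eq_mul.1 (e2.trans e1.symm)).symm
  omega

/-- With three element orbits the action is semiregular. -/
theorem semiregular_of_three (S : Sylow 2 G) {t₀ : G} (ht₀ : t₀ ∈ (S : Subgroup G))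
    (ht₀2 : orderOf t₀ = 2) (h3 : (orb (S : Subgroup G) t₀).ncard = 3) :
    ∀ t ∈ (S : Subgroup G), orderOf t = 2 →
      normalizer ((S : Subgroup G) : Set G) ⊓ centralizer ({t} : Set G) ≤
        centralizer ((S : Subgroup G) : Set G) := by
  intro t ht ht2 g hg
  have o3 : ∀ s ∈ (S : Subgroup G), orderOf s = 2 → (orb (S : Subgroup G) s).ncard = 3 :=
    fun s hs hs2 => (h.orb_ncard_eq S hs ht₀ hs2 ht₀2).trans h3
  refine mem_centralizer_iff.2 fun t' ht' => ?_
  by_contra hne
  have ht'1 : t' ≠ 1 := fun e => hne (by simp [e])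
  have ht'2 := h.two_of_mem S.isPGroup' ht' ht'1
  have hgt : g * t * g⁻¹ = t :=
    mul_inv_eq_iff_eq_mul.2 (mem_centralizer_singleton_iff.1 hg.2)
  have hgt' : g * t' * g⁻¹ ≠ t' := fun e => hne (mul_inv_eq_iff_eq_mul.1 e).symm
  -- an element fixing `t'` and moving `t`
  obtain ⟨k, hkN, hkt', hkt⟩ : ∃ k ∈ normalizer ((S : Subgroup G) : Set G),
      k * t' * k⁻¹ = t' ∧ k * t * k⁻¹ ≠ t := by
    by_contra hall
    push Not at hall
    have hle : normalizer ((S : Subgroup G) : Set G) ⊓ centralizer ({t'} : Set G) ≤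
        normalizer ((S : Subgroup G) : Set G) ⊓ centralizer ({t} : Set G) := fun k hk =>
      ⟨hk.1, mem_centralizer_singleton_iff.2 (mul_inv_eq_iff_eq_mul.1
        (hall k hk.1 (mul_inv_eq_iff_eq_mul.2 (mem_centralizer_singleton_iff.1 hk.2))))⟩
    have heq := eq_of_le_of_card_ge hle (h.nu_eq S ht ht' ht2 ht'2).le
    have : g ∈ normalizer ((S : Subgroup G) : Set G) ⊓ centralizer ({t'} : Set G) := heq ▸ hg
    exact hgt' (mul_inv_eq_iff_eq_mul.2 (mem_centralizer_singleton_iff.1 this.2))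
  have hw1 : t * t' ≠ 1 := by
    intro e
    have : t' = t := by rw [eq_inv_of_mul_eq_one_right e, H65.inv_of_two ht2]
    exact hgt' (this ▸ hgt)
  have hwS := mul_mem ht ht'
  have hw3 := o3 _ hwS (h.two_of_mem S.isPGroup' hwS hw1)
  have hgN := hg.1
  have ho' := o3 t' ht' ht'2
  have hmem : ∀ c ∈ normalizer ((S : Subgroup G) : Set G), ∀ s : G,
      c * s * c⁻¹ ∈ orb (S : Subgroup G) s := fun c hc s => ⟨⟨c, hc⟩, rfl⟩
  have t'mem : t' ∈ orb (S : Subgroup G) t' := ⟨1, by simp⟩
  -- the three translates of `t'` by `g`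
  set a := g * t' * g⁻¹ with hadef
  set b := g * a * g⁻¹ with hbdef
  have ha : a ∈ orb (S : Subgroup G) t' := hmem g hgN t'
  have hb : b ∈ orb (S : Subgroup G) t' := ⟨⟨g * g, mul_mem hgN hgN⟩, by
    show g * g * t' * (g * g)⁻¹ = b
    rw [hbdef, hadef]; group⟩
  have hba : b ≠ a := fun e => hgt' (mul_left_cancel (mul_right_cancel e))
  have hbt' : b ≠ t' := by
    intro e
    obtain ⟨j, ⟨i, rfl⟩, hjS⟩ := h.exists_odd_pow_mem S hgN
    have hpow : ∀ i : ℕ, g ^ (2 * i) * t' * (g ^ (2 * i))⁻¹ = t' := by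
      intro i
      induction i with
      | zero => simp
      | succ i ih =>
        rw [show 2 * (i + 1) = 2 + 2 * i by ring, pow_add, pow_two]
        calc g * g * g ^ (2 * i) * t' * (g * g * g ^ (2 * i))⁻¹
            = g * (g * (g ^ (2 * i) * t' * (g ^ (2 * i))⁻¹) * g⁻¹) * g⁻¹ := by group
          _ = t' := by rw [ih]; exact e
    have hc : g ^ (2 * i + 1) * t' * (g ^ (2 * i + 1))⁻¹ = t' := by
      rw [(h.commute_of_mem S.isPGroup' hjS ht').eq, mul_inv_cancel_right]
    refine hgt' ?_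
    calc g * t' * g⁻¹ = g * (g ^ (2 * i) * t' * (g ^ (2 * i))⁻¹) * g⁻¹ := by rw [hpow i]
      _ = g ^ (2 * i + 1) * t' * (g ^ (2 * i + 1))⁻¹ := by rw [pow_succ']; group
      _ = t' := hc
  -- four points in a three element orbit
  have m0 : t * t' ∈ orb (S : Subgroup G) (t * t') := ⟨1, by simp⟩
  have m1 : t * a ∈ orb (S : Subgroup G) (t * t') := ⟨⟨g, hgN⟩, by
    show g * (t * t') * g⁻¹ = t * a
    rw [show g * (t * t') * g⁻¹ = (g * t * g⁻¹) * (g * t' * g⁻¹) by group, hgt]⟩
  have m2 : t * b ∈ orb (S : Subgroup G) (t * t') := ⟨⟨g * g, mul_mem hgN hgN⟩, by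
    show g * g * (t * t') * (g * g)⁻¹ = t * b
    rw [hbdef, hadef, show g * g * (t * t') * (g * g)⁻¹ =
      (g * (g * t * g⁻¹) * g⁻¹) * (g * (g * t' * g⁻¹) * g⁻¹) by group, hgt, hgt]⟩
  have m3 : k * (t * t') * k⁻¹ ∈ orb (S : Subgroup G) (t * t') := hmem k hkN _
  set u := k * t * k⁻¹ with hudef
  have hk3 : k * (t * t') * k⁻¹ = u * t' := by
    rw [show k * (t * t') * k⁻¹ = (k * t * k⁻¹) * (k * t' * k⁻¹) by group, hkt']
  have hgu : g * u * g⁻¹ = u :=
    h.fix_orb S ht (o3 t ht ht2) hgN ⟨1, by simp⟩ hgt (hmem k hkN t)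
  have hfix : g * (u * t') * g⁻¹ = u * a := by
    rw [show g * (u * t') * g⁻¹ = (g * u * g⁻¹) * (g * t' * g⁻¹) by group, hgu]
  obtain ⟨x, y, z, hxy, hxz, hyz, e⟩ := Set.ncard_eq_three.1 hw3
  have hsub : ({t * t', t * a, t * b} : Set G) = orb (S : Subgroup G) (t * t') := by
    refine Set.eq_of_subset_of_ncard_le (by simp [Set.insert_subset_iff, m0, m1, m2]) ?_
      (Set.toFinite _)
    rw [hw3, Set.ncard_eq_three.2 ⟨t * t', t * a, t * b,
      fun e => hgt' (mul_left_cancel e).symm, fun e => hbt' (mul_left_cancel e).symm,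
      fun e => hba (mul_left_cancel e).symm, rfl⟩]
  rw [hk3, ← hsub] at m3
  rcases m3 with e' | e' | e'
  · exact hkt (mul_right_cancel e')
  · have := congrArg (fun v => g * v * g⁻¹) e'
    simp only [hfix] at this
    rw [show g * (t * a) * g⁻¹ = (g * t * g⁻¹) * (g * a * g⁻¹) by group, hgt, ← hbdef] at this
    have hc1 : u * t' * (u * a) = t * a * (t * b) := by rw [e', this]
    refine hbt' ?_
    have cS : ∀ {v w : G}, v ∈ (S : Subgroup G) → w ∈ (S : Subgroup G) → v * w = w * v :=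
      fun hv hw => (h.commute_of_mem S.isPGroup' hv hw).eq
    have uS : u ∈ (S : Subgroup G) := orb_subset ht (hmem k hkN t)
    have aS : a ∈ (S : Subgroup G) := orb_subset ht' ha
    have l : u * t' * (u * a) = t' * a := by
      rw [cS uS ht', mul_assoc t', ← mul_assoc u, h.sq_eq_one_of_mem S.isPGroup' uS, one_mul]
    have r' : t * a * (t * b) = a * b := by
      rw [cS ht aS, mul_assoc a, ← mul_assoc t, h.sq_eq_one_of_mem S.isPGroup' ht, one_mul]
    rw [l, r', cS ht' aS] at hc1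
    exact (mul_left_cancel hc1).symm
  · have := congrArg (fun v => g * v * g⁻¹) e'
    simp only [hfix] at this
    have hgb : g * b * g⁻¹ = t' := by
      have h3' := ho'
      obtain ⟨x, y, z, -, -, -, e⟩ := Set.ncard_eq_three.1 h3'
      have hsub' : ({t', a, b} : Set G) = orb (S : Subgroup G) t' := by
        refine Set.eq_of_subset_of_ncard_le (by simp [Set.insert_subset_iff, t'mem, ha, hb]) ?_
          (Set.toFinite _)
        rw [ho', Set.ncard_eq_three.2 ⟨t', a, b, fun e => hgt' e.symm, fun e => hbt' e.symm,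
          fun e => hba e.symm, rfl⟩]
      have : g * b * g⁻¹ ∈ orb (S : Subgroup G) t' := ⟨⟨g * g * g, by
        exact mul_mem (mul_mem hgN hgN) hgN⟩, by
        show g * g * g * t' * (g * g * g)⁻¹ = _
        rw [hbdef, hadef]; group⟩
      rw [← hsub'] at this
      rcases this with e | e | e
      · exact e
      · exact absurd (mul_left_cancel (mul_right_cancel e)) hbt'
      · exact absurd (mul_left_cancel (mul_right_cancel e)) hba
    rw [show g * (t * b) * g⁻¹ = (g * t * g⁻¹) * (g * b * g⁻¹) by group, hgt, hgb] at this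
    have hc1 : u * t' * (u * a) = t * b * (t * t') := by rw [e', this]
    have cS : ∀ {v w : G}, v ∈ (S : Subgroup G) → w ∈ (S : Subgroup G) → v * w = w * v :=
      fun hv hw => (h.commute_of_mem S.isPGroup' hv hw).eq
    have uS : u ∈ (S : Subgroup G) := orb_subset ht (hmem k hkN t)
    have aS : a ∈ (S : Subgroup G) := orb_subset ht' ha
    have bS : b ∈ (S : Subgroup G) := orb_subset ht' hb
    have l : u * t' * (u * a) = t' * a := by
      rw [cS uS ht', mul_assoc t', ← mul_assoc u, h.sq_eq_one_of_mem S.isPGroup' uS, one_mul]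
    have r' : t * b * (t * t') = t' * b := by
      rw [cS ht bS, mul_assoc b, ← mul_assoc t, h.sq_eq_one_of_mem S.isPGroup' ht, one_mul,
        cS bS ht']
    rw [l, r'] at hc1
    exact hba (mul_left_cancel hc1).symm

theorem five_le_orb (S : Sylow 2 G) {t : G} (ht : t ∈ (S : Subgroup G)) (ht2 : orderOf t = 2)
    (hns : ¬ ∀ s ∈ (S : Subgroup G), orderOf s = 2 →
      normalizer ((S : Subgroup G) : Set G) ⊓ centralizer ({s} : Set G) ≤
        centralizer ((S : Subgroup G) : Set G)) :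
    5 ≤ (orb (S : Subgroup G) t).ncard := by
  have h1 := h.three_le_orb S ht ht2
  have h2 := h.orb_odd S ht
  have h3 : (orb (S : Subgroup G) t).ncard ≠ 3 := fun e =>
    hns (h.semiregular_of_three S ht ht2 e)
  omega

theorem orb_lt_card (S : Sylow 2 G) {t : G} (ht : t ∈ (S : Subgroup G)) (ht2 : orderOf t = 2) :
    (orb (S : Subgroup G) t).ncard < Nat.card (S : Subgroup G) := by
  show _ < Nat.card ↥((S : Subgroup G) : Set G)
  rw [Nat.card_coe_set_eq]
  refine Set.ncard_lt_ncard (Set.ssubset_iff_of_subset (orb_subset ht) |>.2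
    ⟨1, (S : Subgroup G).one_mem, fun hc => orb_ne_one (H65.ne_one_of_two ht2) hc rfl⟩)
    (Set.toFinite _)

end Hard

end Cfsg.Agent.H9.FiveOrbits
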