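import Cfsg.Agent.H9.FiveOrbits.Count

/-!
Incidences of involutions and Sylow `2`-subgroups; elements of order `r`.
-/

set_option autoImplicit false
set_option linter.unusedSectionVars false
set_option linter.style.haveILetI false

open scoped Pointwise

namespace Cfsg.Agent.H9.FiveOrbits

open Subgroup

universe u

variable {G : Type u} [Group G] [Finite G]

namespace Hard

variable {p r : ℕ} (h : Hard G p r)
include h

theorem sylow_le_centralizer {Q : Subgroup G} (hQ : IsPGroup 2 Q) {t : G} (ht : t ∈ Q) :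
    Q ≤ centralizer ({t} : Set G) := fun _g hg =>
  mem_centralizer_singleton_iff.2 (h.commute_of_mem hQ hg ht).eq

theorem card_sylows_mul (S : Sylow 2 G) {t : G} (ht : t ∈ S) :
    Nat.card {Q : Sylow 2 G // t ∈ Q} *
        Nat.card ↥(normalizer ((S : Subgroup G) : Set G) ⊓ centralizer ({t} : Set G)) =
      Nat.card (centralizer ({t} : Set G)) := by
  haveI : Fact (Nat.Prime 2) := ⟨Nat.prime_two⟩
  set C := centralizer ({t} : Set G) with hC
  have horb : MulAction.orbit C S = {Q : Sylow 2 G | t ∈ Q} := by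
    ext Q
    constructor
    · rintro ⟨c, rfl⟩
      show t ∈ ((c : G) • S : Sylow 2 G)
      have hc : (c : G) * t * (c : G)⁻¹ = t := by
        rw [mem_centralizer_singleton_iff.1 c.2, mul_inv_cancel_right]
      rw [← hc]
      exact smul_mem_pointwise_smul t (MulAut.conj (c : G)) _ ht
    · intro hQ
      obtain ⟨c, hc⟩ := MulAction.exists_smul_eq C
        (S.subtype (h.sylow_le_centralizer S.isPGroup' ht))
        (Q.subtype (h.sylow_le_centralizer Q.isPGroup' hQ))
      rw [Sylow.smul_subtype] at hc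
      exact ⟨c, Sylow.subtype_injective hc⟩
  have hst : MulAction.stabilizer C S =
      (normalizer ((S : Subgroup G) : Set G) ⊓ C).subgroupOf C := by
    ext c
    rw [mem_subgroupOf, mem_inf, MulAction.mem_stabilizer_iff]
    exact ⟨fun e => ⟨Sylow.smul_eq_iff_mem_normalizer.1 e, c.2⟩,
      fun e => Sylow.smul_eq_iff_mem_normalizer.2 e.1⟩
  have h1 := MulAction.index_stabilizer C S
  rw [horb, ← Nat.card_coe_set_eq] at h1
  have h2 := (MulAction.stabilizer C S).card_mul_index
  rw [h1, hst, Nat.card_congr (subgroupOfEquivOfLe inf_le_right).toEquiv] at h2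
  rw [mul_comm]
  exact h2

theorem card_sylows_eq {s t : G} (hs : orderOf s = 2) (ht : orderOf t = 2) :
    Nat.card {Q : Sylow 2 G // s ∈ Q} = Nat.card {Q : Sylow 2 G // t ∈ Q} := by
  obtain ⟨α, hα⟩ := h.aut s t (by rw [hs, ht])
  refine Nat.card_congr ((MulAction.toPerm α : Equiv.Perm (Sylow 2 G)).subtypeEquiv fun Q => ?_)
  rw [← hα]
  exact (smul_mem_pointwise_smul_iff (a := α) (S := (Q : Subgroup G)) (x := s)).symm

theorem card_inv_sylow (Q : Sylow 2 G) :
    Nat.card {t : {t : G // orderOf t = 2} // (t : G) ∈ Q} = Nat.card (Q : Subgroup G) - 1 := by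
  classical
  haveI := Fintype.ofFinite G
  rw [← Nat.card_congr (Equiv.subtypeSubtypeEquivSubtypeInter (fun t : G => orderOf t = 2)
    (fun t => t ∈ Q)).symm]
  have e : {t : G // orderOf t = 2 ∧ t ∈ Q} ≃ {q : (Q : Subgroup G) // q ≠ 1} :=
    { toFun := fun t => ⟨⟨t.1, t.2.2⟩, fun e => H65.ne_one_of_two t.2.1 (congrArg Subtype.val e)⟩
      invFun := fun q => ⟨q.1.1, h.two_of_mem Q.isPGroup' q.1.2
        (fun e => q.2 (Subtype.ext e)), q.1.2⟩
      left_inv := fun t => rfl
      right_inv := fun q => rfl }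
  rw [Nat.card_congr e, Nat.card_eq_fintype_card, Fintype.card_subtype_compl,
    Fintype.card_subtype_eq, ← Nat.card_eq_fintype_card]

/-- The incidence identity. -/
theorem incidence (S : Sylow 2 G) {t : G} (ht : t ∈ S) (ht2 : orderOf t = 2) :
    num G 2 * Nat.card (centralizer ({t} : Set G)) *
        Nat.card (normalizer ((S : Subgroup G) : Set G)) =
      Nat.card G * (Nat.card (S : Subgroup G) - 1) *
        Nat.card ↥(normalizer ((S : Subgroup G) : Set G) ⊓ centralizer ({t} : Set G)) := by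
  classical
  haveI : Fact (Nat.Prime 2) := ⟨Nat.prime_two⟩
  haveI := Fintype.ofFinite G
  haveI := Fintype.ofFinite (Sylow 2 G)
  have h1 : Nat.card {x : {t : G // orderOf t = 2} × Sylow 2 G // (x.1 : G) ∈ x.2} =
      num G 2 * Nat.card {Q : Sylow 2 G // t ∈ Q} := by
    rw [Nat.card_congr (Equiv.subtypeProdEquivSigmaSubtype
      fun (s : {t : G // orderOf t = 2}) (Q : Sylow 2 G) => (s : G) ∈ Q), Nat.card_sigma]
    exact (Finset.sum_congr rfl (g := fun _ => Nat.card {Q : Sylow 2 G // t ∈ Q})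
      (fun (x : {t : G // orderOf t = 2}) _ => h.card_sylows_eq x.2 ht2)).trans (by simp [num])
  have h2 : Nat.card {x : {t : G // orderOf t = 2} × Sylow 2 G // (x.1 : G) ∈ x.2} =
      Nat.card (Sylow 2 G) * (Nat.card (S : Subgroup G) - 1) := by
    have e : {x : {t : G // orderOf t = 2} × Sylow 2 G // (x.1 : G) ∈ x.2} ≃
        Σ Q : Sylow 2 G, {s : {t : G // orderOf t = 2} // (s : G) ∈ Q} :=
      { toFun := fun x => ⟨x.1.2, x.1.1, x.2⟩
        invFun := fun y => ⟨(y.2.1, y.1), y.2.2⟩
        left_inv := fun x => rfl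
        right_inv := fun y => rfl }
    rw [Nat.card_congr e, Nat.card_sigma]
    refine (Finset.sum_congr rfl (g := fun _ => Nat.card (S : Subgroup G) - 1)
      (fun (Q : Sylow 2 G) _ => ?_)).trans (by simp)
    rw [h.card_inv_sylow Q, Nat.card_congr (Sylow.equiv Q S).toEquiv]
  have h3 : Nat.card (Sylow 2 G) * Nat.card (normalizer ((S : Subgroup G) : Set G)) =
      Nat.card G := by
    rw [Sylow.card_eq_index_normalizer S]
    exact Subgroup.index_mul_card _
  rw [← h.card_sylows_mul S ht, ← h3]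
  calc num G 2 * (Nat.card {Q : Sylow 2 G // t ∈ Q} *
        Nat.card ↥(normalizer ((S : Subgroup G) : Set G) ⊓ centralizer ({t} : Set G))) *
        Nat.card (normalizer ((S : Subgroup G) : Set G))
      = (num G 2 * Nat.card {Q : Sylow 2 G // t ∈ Q}) *
        Nat.card (normalizer ((S : Subgroup G) : Set G)) *
        Nat.card ↥(normalizer ((S : Subgroup G) : Set G) ⊓ centralizer ({t} : Set G)) := by ring
    _ = _ := by rw [← h1, h2]; ring

theorem orderOf_eq_r {g : G} (hg : r ∣ orderOf g) : orderOf g = r := by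
  rcases h.orders g with e | e | e | e | e
  · exact absurd (Nat.dvd_one.1 (e ▸ hg)) h.hr.ne_one
  · exact absurd ((Nat.prime_dvd_prime_iff_eq h.hr Nat.prime_two).1 (e ▸ hg)) h.hr2
  · exact absurd ((Nat.prime_dvd_prime_iff_eq h.hr h.hp).1 (e ▸ hg)) (Ne.symm h.hpr)
  · exact e
  · exfalso
    rcases h.hr.dvd_mul.1 (e ▸ hg) with h' | h'
    · exact h.hr2 ((Nat.prime_dvd_prime_iff_eq h.hr Nat.prime_two).1 h')
    · exact h.hpr ((Nat.prime_dvd_prime_iff_eq h.hr h.hp).1 h').symm

/-- Elements commuting with an element of order `r`. -/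
theorem eq_one_or_r {g x : G} (hx : orderOf x = r) (hc : Commute g x) :
    orderOf g = 1 ∨ orderOf g = r := by
  have key : ∀ q : ℕ, q.Prime → q ≠ r → ∀ a : G, Commute a x → orderOf a = q → False := by
    intro q hq hqr a ha hao
    have h1 := ha.orderOf_mul_eq_mul_orderOf_of_coprime
      (by rw [hao, hx]; exact (Nat.coprime_primes hq h.hr).2 hqr)
    rw [hao, hx] at h1
    have h2 := h.orderOf_eq_r (g := a * x) (h1 ▸ dvd_mul_left r q)
    rw [h1] at h2
    exact hq.one_lt.ne' (Nat.eq_of_mul_eq_mul_right h.hr.pos (h2.trans (one_mul r).symm))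
  rcases h.orders g with e | e | e | e | e
  · exact Or.inl e
  · exact (key 2 Nat.prime_two (Ne.symm h.hr2) g hc e).elim
  · exact (key p h.hp h.hpr g hc e).elim
  · exact Or.inr e
  · exact (key 2 Nat.prime_two (Ne.symm h.hr2) _ (hc.pow_left p) (h.split_twoP e).1).elim

theorem exists_r_central :
    ∃ R : Sylow r G, ∃ x ∈ (R : Subgroup G), orderOf x = r ∧
      centralizer ({x} : Set G) = (R : Subgroup G) := by
  haveI := Fact.mk h.hr
  haveI : Fact (Nat.Prime 2) := ⟨Nat.prime_two⟩
  obtain ⟨x₀, hx₀⟩ := h.exR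
  obtain ⟨R, hR⟩ := IsPGroup.exists_le_sylow (IsPGroup.of_card (n := 1)
    (show Nat.card (zpowers x₀) = r ^ 1 by rw [Nat.card_zpowers, hx₀, pow_one]))
  haveI : Nontrivial (R : Subgroup G) := ⟨⟨⟨x₀, hR (mem_zpowers _)⟩, 1, fun e => h.hr.ne_one (by
    rw [← hx₀, show x₀ = 1 from congrArg Subtype.val e, orderOf_one])⟩⟩
  haveI := R.isPGroup'.center_nontrivial
  obtain ⟨z, hz⟩ := exists_ne (1 : center ↥(R : Subgroup G))
  set x := ((z : ↥(R : Subgroup G)) : G) with hxdef
  have hx1 : x ≠ 1 := fun e => hz (Subtype.ext (Subtype.ext e))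
  have hxR : x ∈ (R : Subgroup G) := (z : ↥(R : Subgroup G)).2
  obtain ⟨j, hj⟩ := IsPGroup.iff_orderOf.1 R.isPGroup' ⟨x, hxR⟩
  rw [orderOf_mk] at hj
  have hxr : orderOf x = r :=
    h.orderOf_eq_r (hj ▸ dvd_pow_self r fun e => hx1 (orderOf_eq_one_iff.1 (by rw [hj, e, pow_zero])))
  refine ⟨R, x, hxR, hxr, ?_⟩
  have hle : (R : Subgroup G) ≤ centralizer ({x} : Set G) := fun g hg =>
    mem_centralizer_singleton_iff.2 (congrArg Subtype.val (mem_center_iff.1 z.2 ⟨g, hg⟩))
  have hp : IsPGroup r (centralizer ({x} : Set G)) := by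
    refine IsPGroup.iff_orderOf.2 fun ⟨g, hg⟩ => ?_
    rw [orderOf_mk]
    rcases h.eq_one_or_r hxr (mem_centralizer_singleton_iff.1 hg) with e | e
    · exact ⟨0, by rw [e, pow_zero]⟩
    · exact ⟨1, by rw [e, pow_one]⟩
  exact (R.3 hp hle).symm ▸ rfl

theorem card_centralizer_r {R : Sylow r G} {x y : G} (hx : orderOf x = r)
    (hC : centralizer ({x} : Set G) = (R : Subgroup G)) (hy : orderOf y = r) :
    Nat.card (centralizer ({y} : Set G)) = Nat.card (R : Subgroup G) := by
  obtain ⟨α, hα⟩ := h.aut x y (by rw [hx, hy])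
  rw [← hα, card_centralizer_map, hC]

/-- Every element of order `r` is central in exactly one Sylow subgroup. -/
theorem num_r_mul_le {R : Sylow r G} {x : G} (hx : orderOf x = r)
    (hC : centralizer ({x} : Set G) = (R : Subgroup G)) :
    num G r * Nat.card (normalizer ((R : Subgroup G) : Set G)) ≤
      Nat.card G * (Nat.card (center ↥(R : Subgroup G)) - 1) := by
  classical
  haveI := Fact.mk h.hr
  haveI := Fintype.ofFinite (Sylow r G)
  have hq : ∀ y : {g : G // orderOf g = r}, ∃ Q : Sylow r G,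
      centralizer ({(y : G)} : Set G) = (Q : Subgroup G) := fun y =>
    ⟨Sylow.ofCard (centralizer ({(y : G)} : Set G))
      (by rw [h.card_centralizer_r hx hC y.2, Sylow.card_eq_multiplicity R]),
      (Sylow.coe_ofCard _ _).symm⟩
  choose F hF using hq
  let e : {g : G // orderOf g = r} → Σ Q : Sylow r G, {q : center ↥(Q : Subgroup G) // q ≠ 1} :=
    fun y => ⟨F y, ⟨⟨⟨y.1, hF y ▸ mem_centralizer_singleton_iff.2 rfl⟩,
      mem_center_iff.2 fun q => Subtype.ext
        (mem_centralizer_singleton_iff.1 ((hF y).symm ▸ q.2 : (q : G) ∈ centralizer {(y : G)}))⟩,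
      fun e => h.hr.ne_one (by
        rw [← y.2, show (y : G) = 1 from congrArg (fun q => ((q : ↥(F y : Subgroup G)) : G))
          (congrArg Subtype.val e), orderOf_one])⟩⟩
  have hinj : Function.Injective e := fun a b hab => Subtype.ext <| by
    have := congrArg (fun s : Σ Q : Sylow r G, {q : center ↥(Q : Subgroup G) // q ≠ 1} =>
      ((s.2.1 : ↥(s.1 : Subgroup G)) : G)) hab
    exact this
  have h1 := Nat.card_le_card_of_injective e hinj
  have hz : ∀ Q : Sylow r G, Nat.card {q : center ↥(Q : Subgroup G) // q ≠ 1} =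
      Nat.card (center ↥(R : Subgroup G)) - 1 := by
    intro Q
    haveI := Fintype.ofFinite (center ↥(Q : Subgroup G))
    rw [Nat.card_eq_fintype_card, Fintype.card_subtype_compl, Fintype.card_subtype_eq,
      ← Nat.card_eq_fintype_card, Nat.card_congr (centerCongr (Sylow.equiv Q R)).toEquiv]
  rw [Nat.card_sigma, Finset.sum_congr rfl (fun Q _ => hz Q), Finset.sum_const,
    Finset.card_univ, smul_eq_mul, ← Nat.card_eq_fintype_card] at h1
  rw [← Subgroup.index_mul_card (normalizer ((R : Subgroup G) : Set G))]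
  erw [← Sylow.card_eq_index_normalizer R]
  calc num G r * Nat.card (normalizer ((R : Subgroup G) : Set G))
      ≤ Nat.card (Sylow r G) * (Nat.card (center ↥(R : Subgroup G)) - 1) *
        Nat.card (normalizer ((R : Subgroup G) : Set G)) := Nat.mul_le_mul_right _ h1
    _ = _ := by ring

theorem mul_num_r_lt {R : Sylow r G} {x : G} (hx : orderOf x = r)
    (hC : centralizer ({x} : Set G) = (R : Subgroup G)) {m : ℕ}
    (hm : m * Nat.card (center ↥(R : Subgroup G)) ≤
      Nat.card (normalizer ((R : Subgroup G) : Set G))) :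
    m * num G r < Nat.card G := by
  have h1 := h.num_r_mul_le hx hC
  set z := Nat.card (center ↥(R : Subgroup G))
  have hz : 0 < z := Nat.card_pos
  have hG : 0 < Nat.card G := Nat.card_pos
  by_contra hlt
  push Not at hlt
  have h2 : m * z * num G r ≤ Nat.card G * (z - 1) :=
    le_trans (le_trans (Nat.mul_le_mul_right _ hm) (le_of_eq (mul_comm _ _))) h1
  have h3 : Nat.card G * z ≤ Nat.card G * (z - 1) :=
    le_trans (le_trans (Nat.mul_le_mul_right _ hlt) (le_of_eq (by ring))) h2
  have := Nat.le_of_mul_le_mul_left h3 hG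
  omega

theorem two_mul_num_r_lt : 2 * num G r < Nat.card G := by
  haveI := Fact.mk h.hr
  obtain ⟨R, x, hxR, hx, hC⟩ := h.exists_r_central
  refine h.mul_num_r_lt hx hC ?_
  by_cases hN : normalizer ((R : Subgroup G) : Set G) = (R : Subgroup G)
  · rw [hN, ← (center ↥(R : Subgroup G)).card_mul_index, mul_comm]
    refine Nat.mul_le_mul_left _ (Subgroup.one_lt_index_of_ne_top fun htop => ?_)
    refine h.not_normalizer_le_centralizer R (hx ▸ orderOf_dvd_natCard x) ?_
    rw [hN]
    exact fun g hg => mem_centralizer_iff.2 fun a ha => congrArg Subtype.val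
      (mem_center_iff.1 (htop ▸ mem_top (⟨g, hg⟩ : ↥(R : Subgroup G))) ⟨a, ha⟩)
  · have hle : (R : Subgroup G) ≤ normalizer ((R : Subgroup G) : Set G) := le_normalizer
    refine le_trans (Nat.mul_le_mul_left 2 (Subgroup.card_le_card_group _)) ?_
    rw [← Subgroup.relIndex_mul_relIndex ⊥ (R : Subgroup G) _ bot_le hle
      |> fun e => e.trans (relIndex_bot_left _), relIndex_bot_left, mul_comm]
    refine Nat.mul_le_mul_left _ ?_
    have h1 : (R : Subgroup G).relIndex (normalizer ((R : Subgroup G) : Set G)) ≠ 1 :=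
      fun e => hN (le_antisymm (relIndex_eq_one.1 e) hle)
    have h0 : (R : Subgroup G).relIndex (normalizer ((R : Subgroup G) : Set G)) ≠ 0 :=
      Subgroup.index_ne_zero_of_finite
    omega

end Hard

end Cfsg.Agent.H9.FiveOrbits
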